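import Cfsg.Agent.H179.SLC.Coc_m3
import Cfsg.Agent.H955.L64.Irr
import Cfsg.Agent.H597.E8Form
import Cfsg.Agent.Prune
set_option linter.all false

section
prune_inst 0x7f00000000000000000000000000000000000000000000000000000000000000000000000000000000000000000000000000000000000000000000000000000000000000000000000000000000000000003fffffffffffffffffffffffffffbeffbdffffffff

-- part: H939/L64/DefR
section
set_option linter.all false
open scoped Cfsg.Agent.FastGrp

/-!
# S5915 (`L₂(64)` in `E₈(2)`): interface, module theory of `SL₂(64)` in characteristic two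

`k` algebraically closed of characteristic 2, `ι : F → k`, `|F| = 64`; `Vb ι b`, `b < 64`, the simple modules
(`b = ∑_{i ∈ I} 2 ^ i`, `V_b = ⊗_{i ∈ I} V_{2 ^ i}`).
-/

set_option autoImplicit false

namespace Cfsg.Agent.H939.L64

open Matrix Cfsg.Agent.H943.SL2Rel Cfsg.Agent.H943.RepAdd Cfsg.Agent.H943.SL2Mod

/-- `W` is invariant and isomorphic to `V_b` -/
def IsV {k F V : Type*} [Field k] [Field F] [Fintype F] [DecidableEq F] [AddCommGroup V] [Module k V] (ι : F →+* k)
    (b : ℕ) (ρ : Representation k (SpecialLinearGroup (Fin 2) F) V) (W : Submodule k V) : Prop :=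
  ∃ φ : (F × F → k) →ₗ[k] V, (∀ g, ∀ f ∈ Vb ι b, fRep k F g f ∈ Vb ι b ∧ φ (fRep k F g f) = ρ g (φ f)) ∧
    (Vb ι b).map φ = W ∧ ∀ f ∈ Vb ι b, φ f = 0 → f = 0

/-- the fixed vectors -/
def fixS {k G V : Type*} [Field k] [Group G] [AddCommGroup V] [Module k V] (ρ : Representation k G V) :
    Submodule k V where
  carrier := {v | ∀ g, ρ g v = v}
  add_mem' := fun ha hb g => by rw [map_add, ha g, hb g]
  zero_mem' := fun g => map_zero _
  smul_mem' := fun c v hv g => by rw [map_smul, hv g]

/-- the data: a generator `lam` of the split torus, `y` of order 65 with the eigenvalues `ζ, ζ⁻¹` -/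
structure Dat {k F : Type*} [Field k] [Field F] [Fintype F] (ι : F →+* k) (lam : Fˣ)
    (y : SpecialLinearGroup (Fin 2) F) (ζ : k) : Prop where
  card : Fintype.card F = 64
  gen : ∀ x, x ∈ Subgroup.zpowers lam
  prim : IsPrimitiveRoot ζ 65
  tr : ι (y.1 0 0 + y.1 1 1) = ζ + ζ⁻¹

/-- the multiplicities of the eigenvalues of `y` of order 65 -/
noncomputable def e65 {k F V : Type*} [Field k] [Field F] [AddCommGroup V] [Module k V]
    (ρ : Representation k (SpecialLinearGroup (Fin 2) F) V) (y : SpecialLinearGroup (Fin 2) F) (ζ : k) (j : ℕ) : ℕ :=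
  Module.finrank k (eig ρ y (ζ ^ j))

/-- the multiplicities of the eigenvalues of `h lam` -/
noncomputable def e63 {k F V : Type*} [Field k] [Field F] [AddCommGroup V] [Module k V] (ι : F →+* k)
    (ρ : Representation k (SpecialLinearGroup (Fin 2) F) V) (lam : Fˣ) (j : ℕ) : ℕ :=
  Module.finrank k (eig ρ (h lam) (ι lam ^ j))

/-- the submasks of `b` -/
def subm (b : ℕ) : List ℕ := (List.range (b + 1)).filter fun m => (m &&& b) == m

/-- multiplicities of the eigenvalues of `y` on `V_b` : the weights are `2 m - b`, `m` a submask of `b` -/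
def w65 (b j : ℕ) : ℕ := ((subm b).filter fun m => (2 * m + 64 * b) % 65 == j).length

/-- multiplicities of the eigenvalues of `h lam` on `V_b` -/
def w63 (b j : ℕ) : ℕ := ((subm b).filter fun m => (2 * m + 62 * b) % 63 == j).length

/-- `m b` : the multiplicity of `V_b` as a composition factor (in the Grothendieck group) -/
def SpecM {k F V : Type*} [Field k] [Field F] [AddCommGroup V] [Module k V] (ι : F →+* k)
    (ρ : Representation k (SpecialLinearGroup (Fin 2) F) V) (lam : Fˣ) (y : SpecialLinearGroup (Fin 2) F) (ζ : k)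
    (m : ℕ → ℕ) : Prop :=
  (∀ j < 65, e65 ρ y ζ j = ∑ b ∈ Finset.range 64, m b * w65 b j) ∧
    ∀ j < 63, e63 ι ρ lam j = ∑ b ∈ Finset.range 64, m b * w63 b j

/-- the smallest rotation of a mask (`b < 63`) -/
def orb (b : ℕ) : ℕ := (List.range 6).foldl (fun x i => min x (2 ^ i * b % 63)) b

/-- the four patterns -/
def pat (p b : ℕ) : ℕ :=
  if b = 63 then [0, 0, 1, 2, 0].getD p 0 else
  match orb b with
  | 0 => [0, 12, 8, 12, 12].getD p 0
  | 1 => [0, 1, 2, 4, 6].getD p 0
  | 3 => [0, 0, 0, 1, 1].getD p 0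
  | 5 => [0, 0, 3, 1, 3].getD p 0
  | 9 => [0, 4, 0, 1, 3].getD p 0
  | 7 => [0, 2, 0, 0, 0].getD p 0
  | 11 => [0, 0, 1, 0, 0].getD p 0
  | 21 => [0, 2, 2, 0, 2].getD p 0
  | 27 => [0, 1, 0, 0, 0].getD p 0
  | _ => 0

end Cfsg.Agent.H939.L64
end

-- part: H939/L64/Base
section
set_option linter.all false
open scoped Cfsg.Agent.FastGrp

/-!
# S5915: the module `LK` (form, bracket, Frobenius map)
-/

set_option autoImplicit false
set_option maxRecDepth 100000

namespace Cfsg.Agent.H939.L64

open Matrix Cfsg Cfsg.Lie Cfsg.Lie.ChevalleyDatum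
open Cfsg.Agent.ChevalleyStructure Cfsg.Agent.Tits.Roots
open Cfsg.Agent.GpExc.Field (emb emb_injective coe_emb)
open Cfsg.Agent.H942.E8Tab
open Cfsg.Agent.H943.SL2Rel Cfsg.Agent.H943.RepAdd Cfsg.Agent.H943.SL2Mod

theorem em_injective : Function.Injective em := emb_injective e8T.inList _

theorem em_entry (g : E2) (i j : chevE8.Idx) :
    (((em g : ↥(chevE8.group KK)) : GL chevE8.Idx KK) : Matrix chevE8.Idx chevE8.Idx KK) i j =
      algebraMap (ZMod 2) KK ((((g : GL chevE8.Idx (ZMod 2)) : Matrix chevE8.Idx chevE8.Idx (ZMod 2))) i j) := by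
  unfold em
  rw [coe_emb]
  rfl

theorem rE_inj {g : E2} (h : ∀ v, rE g v = v) : g = 1 := by
  apply em_injective
  rw [map_one]
  apply Subtype.ext
  apply Units.ext
  apply Matrix.toLin'.injective
  ext1 i
  apply LinearMap.ext
  intro c
  simp only [LinearMap.comp_apply, Matrix.toLin'_apply]
  have := h (LinearMap.single KK (fun _ : chevE8.Idx => KK) i c)
  rw [rE_apply, aK] at this
  rw [this, Subgroup.coe_one, Units.val_one, Matrix.one_mulVec]

/-- the invariant form -/
theorem exists_form : ∃ B : LK →ₗ[KK] LK →ₗ[KK] KK,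
    (∀ (g : ↥(chevE8.group KK)) v w, B (aK g v) (aK g w) = B v w) ∧ (∀ v w, B v w = B w v) ∧
      ∀ v, (∀ w, B v w = 0) → v = 0 := by
  obtain ⟨J, h1, h2, h3⟩ := Cfsg.Agent.H597.E8Form.form KK
  have e : ∀ v w : LK, Matrix.toLinearMap₂' KK J v w = v ⬝ᵥ (J *ᵥ w) := fun v w => Matrix.toLinearMap₂'_apply' J v w
  refine ⟨Matrix.toLinearMap₂' KK J, fun g v w => ?_, fun v w => ?_, fun v hv => ?_⟩
  · rw [e, e, aK, aK, Matrix.dotProduct_mulVec, ← Matrix.vecMul_transpose, Matrix.vecMul_vecMul,
      ← Matrix.dotProduct_mulVec, Matrix.mulVec_mulVec, h3 _ g.2]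
  · rw [e, e, Matrix.dotProduct_mulVec, ← Matrix.mulVec_transpose, h1, dotProduct_comm]
  · have h4 : v ᵥ* J = 0 := by
      funext i
      have := hv (Pi.single i 1)
      rw [e, Matrix.dotProduct_mulVec, dotProduct_single_one] at this
      exact this
    have h5 : (v ᵥ* J) ᵥ* J⁻¹ = v := by
      rw [Matrix.vecMul_vecMul, Matrix.mul_nonsing_inv _ h2, Matrix.vecMul_one]
    rw [← h5, h4, Matrix.zero_vecMul]

/-- the bracket as a bilinear map -/
noncomputable def brL : LK →ₗ[KK] LK →ₗ[KK] LK :=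
  LinearMap.mk₂ KK brK (fun u v w => Cfsg.Agent.H971.RV.br_add_left u v w)
    (fun c v w => Cfsg.Agent.H971.RV.br_smul_left c v w) (fun u v w => Cfsg.Agent.H971.RV.br_add_right u v w)
    (fun c v w => Cfsg.Agent.H971.RV.br_smul_right c v w)

theorem brL_apply (v w : LK) : brL v w = brK v w := rfl

theorem rE_brK (g : E2) (v w : LK) : rE g (brK v w) = brK (rE g v) (rE g w) := by
  rw [rE_apply, rE_apply, rE_apply]
  exact Cfsg.Agent.H971.RV.rho_br (by simp) (em g) v w

/-- the Frobenius map -/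
noncomputable def frE : LK ≃+ LK where
  toFun v := fr v
  invFun v := fun i => (frobeniusEquiv KK 2).symm (v i)
  left_inv v := by
    funext i
    exact (frobeniusEquiv KK 2).symm_apply_apply (v i)
  right_inv v := by
    funext i
    exact (frobeniusEquiv KK 2).apply_symm_apply (v i)
  map_add' v w := by
    funext i
    exact add_pow_char (v i) (w i) 2

theorem frE_apply (v : LK) (i : chevE8.Idx) : frE v i = v i ^ 2 := rfl

theorem frE_smul (c : KK) (v : LK) : frE (c • v) = c ^ 2 • frE v := by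
  funext i
  rw [frE_apply, Pi.smul_apply, Pi.smul_apply, smul_eq_mul, smul_eq_mul, mul_pow, frE_apply]

theorem frE_rE (g : E2) (v : LK) : frE (rE g v) = rE g (frE v) := by
  funext i
  rw [frE_apply, rE_apply, rE_apply, aK, aK, Matrix.mulVec, Matrix.mulVec, dotProduct, dotProduct]
  rw [← frobenius_def, map_sum]
  refine Finset.sum_congr rfl fun j _ => ?_
  rw [map_mul, em_entry, frobenius_def, frobenius_def, frE_apply, ← map_pow]
  congr 2
  exact ZMod.pow_card _

theorem rE_mul (g h : E2) (v : LK) : rE (g * h) v = rE g (rE h v) := by rw [map_mul]; rfl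

theorem rE_one (v : LK) : rE 1 v = v := by rw [map_one]; rfl

theorem rE_inv_self (g : E2) (v : LK) : rE g⁻¹ (rE g v) = v := by rw [← rE_mul, inv_mul_cancel, rE_one]

theorem rE_self_inv (g : E2) (v : LK) : rE g (rE g⁻¹ v) = v := by rw [← rE_mul, mul_inv_cancel, rE_one]

/-- an element as a linear automorphism -/
noncomputable def rEq (g : E2) : LK ≃ₗ[KK] LK :=
  LinearEquiv.ofLinear (rE g) (rE g⁻¹) (LinearMap.ext fun v => rE_self_inv g v) (LinearMap.ext fun v => rE_inv_self g v)

theorem rEq_apply (g : E2) (v : LK) : rEq g v = rE g v := rfl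

theorem finrank_LK : Module.finrank KK LK = 248 := by
  rw [Module.finrank_fintype_fun_eq_card]
  rfl

end Cfsg.Agent.H939.L64

private theorem dce_fb89c2efbe9b : _root_.True := by
  try have : _root_.True := by simp only [_root_.Cfsg.Agent.H939.L64.aK.eq_1]
  exact _root_.True.intro
end
end
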