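import Cfsg.Agent.H939.L64.Base
import Cfsg.Agent.Lib.ListFast
import Cfsg.Agent.H413.L64.TFour_m3
import Cfsg.Agent.H876.L64.TFive_m3
import Cfsg.Agent.Prune
set_option linter.all false

section
prune_inst 0x7ffeadfbabfbb9dfffff7e7fa6deedfdfbb93fffa4dff9cbffe06bff2bbfeb128dc567ad8be2b0fe0ed7ca1418e8fb43f9ffffffe86bfc7ffffd5ff45ffbffcffdf7bd08519488340fb82ffe83f0778e7f3fffffffffffffffffffffffffffbeffbfffffffff

-- part: H875/L64/Add
section
prune_inst 0x110045404462000000180580110020446c000182002000008800084001088102a001010004801110000e04402000002000000000400000000a000000000100000000000030000000000010000084000000000000000000000000000000000004000000000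
set_option linter.all false
open scoped Cfsg.Agent.FastGrp

/-- decoders of the packed data (elaboration time only) -/
private noncomputable def pk61d (b S i : Nat) : Nat := Nat.mod (Nat.shiftRight S (Nat.mul b i)) (Nat.shiftLeft (nat_lit 1) b)
private noncomputable def pk61f {α : Type} (t : Nat) (f : Nat → α) : α := Nat.rec (f Nat.zero) (fun k _ => f (Nat.succ k)) t
private noncomputable def pk61l {α : Type} (f : Nat → α) (s e : Nat) (tl : List α) : List α :=
  pk61f e fun e => Nat.rec tl (fun k ih => List.cons (pk61f (Nat.sub e (Nat.succ k)) f) ih) (Nat.sub e s)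

-- part: H875/L64/Table
section
/-!
# S5915, R3b: the multiplicities are determined by the two tables (helper875)
-/

set_option autoImplicit false
set_option maxRecDepth 100000

namespace Cfsg.Agent.H875.L64

open Cfsg.Agent.H939.L64

/-- the table : row `b` = `w65 b 0, ..., w65 b 32, w63 b 0, ..., w63 b 31` -/
def tabW : List (List ℕ) :=
  let y0 : List (List ℕ) := (by
  refine (?fq9001 : (pk61l (fun i0 => (pk61l (fun i1 => (pk61d (nat_lit 2) 
    (nat_lit 0x55555555555555565555555555555555050505050505050505050505050505050055005500550055005500550055005500050005000500050005000500050005000055550000555500005555000055550000050500000505000005050000050500000055000000550000005500000055000000050000000500000005000000050000000055555555000000005555555500000000050505050000000005050505000000000055005500000000005500550000000000050005000000000005000500000000000055550000000000005555000000000000050500000000000005050000000000000055000000000000005500000000000000050000000000000005000000005555555500000000555555550000000005050505000000000505050500000000005500550000000000550055000000000005000500000000000500050000000000)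 i1)) (Nat.mul (nat_lit 65) i0) (Nat.mul (nat_lit 65) (Nat.succ i0)) List.nil)) (nat_lit 0) (nat_lit 20) List.nil : List (List ℕ))
    = ?xq9001 → (List (List ℕ))) ?hq9001; (case hq9001 => (set_option maxRecDepth 1000000 in set_option simprocs false in conv => lhs; reduce; dsimp only)); intro _; exact ?xq9001 : List (List ℕ))
  let y1 : List (List ℕ) := (by
  refine (?fq9002 : (fun tl : List (List ℕ) => pk61l (fun i0 => (pk61l (fun i1 => (pk61d (nat_lit 1) 
    (nat_lit 0x3fc000003fc000000cc000000cc0000003c0000003c0000000c0000000c000003fc000003fc000000cc000000cc0000003c0000003c0000000c0000000c0000003c0000003c0000000c0000000c0000000c0000000c000000040000000400000002aaaaaaa95555555488888888444444442828282814141414080808080404040402a802a8015401540088008800440044002800280014001400080008000400040002aaa800015554000088880000444400) i1)) (Nat.mul (nat_lit 65) i0) (Nat.mul (nat_lit 65) (Nat.succ i0)) List.nil)) (nat_lit 0) (nat_lit 22) tl)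
    = ?xq9002 → (List (List ℕ))) ?hq9002; (case hq9002 => (set_option maxRecDepth 1000000 in set_option simprocs false in conv => lhs; reduce; dsimp only)); intro _; exact ?xq9002 y0 : List (List ℕ))
  (by
  refine (?fq9003 : (fun tl : List (List ℕ) => pk61l (fun i0 => (pk61l (fun i1 => (pk61d (nat_lit 1) 
    (nat_lit 0xa0a000005050000020200000101000000aa0000005500000022000000110000000a00000005000000020000000100000000aaaa00005555000022220000111100000a0a000005050000020200000101000000aa0000005500000022000000110000000a00000005000000020000000100000000aa0000005500000022000000110000000a00000005000000020000000100000000a000000050000000200000001000000008000000040000000200000001) i1)) (Nat.mul (nat_lit 65) i0) (Nat.mul (nat_lit 65) (Nat.succ i0)) List.nil)) (nat_lit 0) (nat_lit 22) tl)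
    = ?xq9003 → (List (List ℕ))) ?hq9003; (case hq9003 => (set_option maxRecDepth 1000000 in set_option simprocs false in conv => lhs; reduce; dsimp only)); intro _; exact ?xq9003 y1 : List (List ℕ))

/-- the certificate, positive part -/
def tabP : List (List ℕ) :=
  let y0 : List (List ℕ) := (by
  refine (?fq9004 : (pk61l (fun i0 => (pk61l (fun i1 => (pk61d (nat_lit 1) 
    (nat_lit 0xffffffff000000010000000000000001000000000000000140000000000000010000000000000001400000000000000110000000000000015400000000000001000000000000000140000000000000011000000000000001540000000000000101000000000000014140000000000001111000000000000155540000000000010000000000000001400000000000000110000000000000015400000000000) i1)) (Nat.mul (nat_lit 65) i0) (Nat.mul (nat_lit 65) (Nat.succ i0)) List.nil)) (nat_lit 0) (nat_lit 20) List.nil : List (List ℕ))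
    = ?xq9004 → (List (List ℕ))) ?hq9004; (case hq9004 => (set_option maxRecDepth 1000000 in set_option simprocs false in conv => lhs; reduce; dsimp only)); intro _; exact ?xq9004 : List (List ℕ))
  let y1 : List (List ℕ) := (by
  refine (?fq9005 : (fun tl : List (List ℕ) => pk61l (fun i0 => (pk61l (fun i1 => (pk61d (nat_lit 1) 
    (nat_lit 0x4040000000000000505000000000000044440000000000005555000000000000400040000000000050005000000000004400440000000000550055000000000040404040000000005050505000000000444444440000000055555555000000002000000000000000180000000000000006000000000000000780000000000000006000000000000000780000000000000066000000000000007f80000000000000006000000000000000780000000000000) i1)) (Nat.mul (nat_lit 65) i0) (Nat.mul (nat_lit 65) (Nat.succ i0)) List.nil)) (nat_lit 0) (nat_lit 22) tl)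
    = ?xq9005 → (List (List ℕ))) ?hq9005; (case hq9005 => (set_option maxRecDepth 1000000 in set_option simprocs false in conv => lhs; reduce; dsimp only)); intro _; exact ?xq9005 y0 : List (List ℕ))
  (by
  refine (?fq9006 : (fun tl : List (List ℕ) => pk61l (fun i0 => (pk61l (fun i1 => (pk61d (nat_lit 1) 
    (nat_lit 0x19800000000000001fe000000000000018180000000000001e1e00000000000019998000000000001fffe00000000000000018000000000000001e0000000000000019800000000000001fe000000000000018180000000000001e1e00000000000019998000000000001fffe0000000000018001800000000001e001e000000000019801980000000001fe01fe00000000018181818000000001e1e1e1e00000000199999998000000000000000000000001) i1)) (Nat.mul (nat_lit 65) i0) (Nat.mul (nat_lit 65) (Nat.succ i0)) List.nil)) (nat_lit 0) (nat_lit 22) tl)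
    = ?xq9006 → (List (List ℕ))) ?hq9006; (case hq9006 => (set_option maxRecDepth 1000000 in set_option simprocs false in conv => lhs; reduce; dsimp only)); intro _; exact ?xq9006 y1 : List (List ℕ))

/-- the certificate, negative part -/
def tabN : List (List ℕ) :=
  let y0 : List (List ℕ) := (by
  refine (?fq9007 : (pk61l (fun i0 => (pk61l (fun i1 => (pk61d (nat_lit 1) 
    (nat_lit 0xfffffffe00000000000000000000000080000000000000008000000000000000a0000000000000008000000000000000a0000000000000008800000000000000aa000000000000008000000000000000a0000000000000008800000000000000aa000000000000008080000000000000a0a00000000000008888000000000000aaaa0000000000008000000000000000a0000000000000008800000000000000aa000) i1)) (Nat.mul (nat_lit 65) i0) (Nat.mul (nat_lit 65) (Nat.succ i0)) List.nil)) (nat_lit 0) (nat_lit 20) List.nil : List (List ℕ))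
    = ?xq9007 → (List (List ℕ))) ?hq9007; (case hq9007 => (set_option maxRecDepth 1000000 in set_option simprocs false in conv => lhs; reduce; dsimp only)); intro _; exact ?xq9007 : List (List ℕ))
  let y1 : List (List ℕ) := (by
  refine (?fq9008 : (fun tl : List (List ℕ) => pk61l (fun i0 => (pk61l (fun i1 => (pk61d (nat_lit 1) 
    (nat_lit 0x2020000000000000282800000000000022220000000000002aaa8000000000002000200000000000280028000000000022002200000000002a802a80000000002020202000000000282828280000000022222222000000002aaaaaaa800000002000000000000000180000000000000006000000000000000780000000000000006000000000000000780000000000000066000000000000007f800000000000000060000000000000007800000) i1)) (Nat.mul (nat_lit 65) i0) (Nat.mul (nat_lit 65) (Nat.succ i0)) List.nil)) (nat_lit 0) (nat_lit 22) tl)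
    = ?xq9008 → (List (List ℕ))) ?hq9008; (case hq9008 => (set_option maxRecDepth 1000000 in set_option simprocs false in conv => lhs; reduce; dsimp only)); intro _; exact ?xq9008 y0 : List (List ℕ))
  (by
  refine (?fq9009 : (fun tl : List (List ℕ) => pk61l (fun i0 => (pk61l (fun i1 => (pk61d (nat_lit 1) 
    (nat_lit 0x19800000000000001fe000000000000018180000000000001e1e00000000000019998000000000001fffe00000000000000018000000000000001e0000000000000019800000000000001fe000000000000018180000000000001e1e00000000000019998000000000001fffe0000000000018001800000000001e001e000000000019801980000000001fe01fe00000000018181818000000001e1e1e1e000000001999999980000000000000000) i1)) (Nat.mul (nat_lit 65) i0) (Nat.mul (nat_lit 65) (Nat.succ i0)) List.nil)) (nat_lit 0) (nat_lit 22) tl)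
    = ?xq9009 → (List (List ℕ))) ?hq9009; (case hq9009 => (set_option maxRecDepth 1000000 in set_option simprocs false in conv => lhs; reduce; dsimp only)); intro _; exact ?xq9009 y1 : List (List ℕ))

/-- the dot product -/
def dotL (a b : List ℕ) : ℕ := (List.zipWith (fun x y => x * y) a b).foldr (fun x y => x + y) 0

private noncomputable def _root_.Cfsg.Agent.KOfc0ae0f.k0 : ((x0 : Prop) → ((@Decidable @x0) → @Bool)) := @(fun (x0 : Prop) (x1 : @Decidable @x0) => @Decidable.rec.{1} @x0 @(fun (x2 : @Decidable @x0) => @Bool) @(fun (x2 : @Not @x0) => @Bool.false) @(fun (x2 : x0) => @Bool.true) @x1)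
private theorem _root_.Cfsg.Agent.KOfc0ae0f.e0 : @Decidable.decide = @_root_.Cfsg.Agent.KOfc0ae0f.k0 := by delta _root_.Cfsg.Agent.KOfc0ae0f.k0; rfl'
private noncomputable def _root_.Cfsg.Agent.KOfc0ae0f.oEq.{ku} (α : Sort ku) (a b : Nat) (f t : α) : α := @Decidable.rec (a = b) (fun _ => α) (fun _ => f) (fun _ => t) (Nat.decEq a b)
private noncomputable def _root_.Cfsg.Agent.KOfc0ae0f.k1.{ku} (α : Sort ku) (a b : Nat) (f t : α) : α := @Bool.rec (fun _ => α) f t (Nat.beq a b)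
private theorem _root_.Cfsg.Agent.KOfc0ae0f.e1.{ku} : @_root_.Cfsg.Agent.KOfc0ae0f.oEq.{ku} = @_root_.Cfsg.Agent.KOfc0ae0f.k1.{ku} := funext fun α => funext fun a => funext fun b => funext fun f => funext fun t => by delta _root_.Cfsg.Agent.KOfc0ae0f.oEq _root_.Cfsg.Agent.KOfc0ae0f.k1; cases h : Nat.beq a b <;> cases Nat.decEq a b <;> rename_i g <;> first | rfl | exact absurd g (Nat.ne_of_beq_eq_false h) | exact absurd (Nat.eq_of_beq_eq_true h) g
private theorem _root_.Cfsg.Agent.KOfc0ae0f.e2.{ku, kv} {α : Type kv} {M : List α → Sort ku} (φ : ∀ l, M l) {z : M List.nil} {s : ∀ a l, M l → M (List.cons a l)} (h0 : φ List.nil = z) (hs : ∀ a l, φ (List.cons a l) = s a l (φ l)) (l : List α) : φ l = @List.rec α M z s l := List.rec h0 (fun a l ih => (hs a l).trans (congrArg (s a l) ih)) l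
private noncomputable def _root_.Cfsg.Agent.KOfc0ae0f.k3.{ku0} : ((x0 : Sort (ku0+1)) → ((@List.{ku0} @x0) → @Nat)) := @(fun (x0 : Sort (ku0+1)) (x1 : @List.{ku0} @x0) => @List.rec.{1, ku0} @x0 @(fun (x2 : @List.{ku0} @x0) => @Nat) (nat_lit 0) @(fun (x2 : x0) (x3 : @List.{ku0} @x0) (x4 : @Nat) => @Nat.add @x4 (nat_lit 1)) @x1)
private theorem _root_.Cfsg.Agent.KOfc0ae0f.e3.{ku0} : @List.length.{ku0} = @_root_.Cfsg.Agent.KOfc0ae0f.k3.{ku0} := by delta _root_.Cfsg.Agent.KOfc0ae0f.k3; funext a0 a1; refine (_root_.Cfsg.Agent.KOfc0ae0f.e2 (fun a1 => @List.length.{ku0} a0 a1) ?_ (fun c0 c1 => ?_) a1 :) <;> (rfl')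
private noncomputable def _root_.Cfsg.Agent.KOfc0ae0f.k4.{ku0} : ((x0 : Sort (ku0+1)) → ((x0 → @Bool) → ((@List.{ku0} @x0) → @List.{ku0} @x0))) := @(fun (x0 : Sort (ku0+1)) (x1 : (x0 → @Bool)) (x2 : @List.{ku0} @x0) => @List.rec.{(ku0+1), ku0} @x0 @(fun (x3 : @List.{ku0} @x0) => @List.{ku0} @x0) (@List.nil.{ku0} @x0) @(fun (x3 : x0) (x4 : @List.{ku0} @x0) (x5 : @List.{ku0} @x0) => @Bool.rec.{(ku0+1)} @(fun (x6 : @Bool) => @List.{ku0} @x0) @x5 (@List.cons.{ku0} @x0 @x3 @x5) (@x1 @x3)) @x2)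
private theorem _root_.Cfsg.Agent.KOfc0ae0f.e4.{ku0} : @List.filter.{ku0} = @_root_.Cfsg.Agent.KOfc0ae0f.k4.{ku0} := by delta _root_.Cfsg.Agent.KOfc0ae0f.k4; funext a0 a1 a2; refine (_root_.Cfsg.Agent.KOfc0ae0f.e2 (fun a2 => @List.filter.{ku0} a0 a1 a2) ?_ (fun c0 c1 => ?_) a2 :) <;> (rfl')
private theorem _root_.Cfsg.Agent.KOfc0ae0f.e5.{ku} {M : Nat → Sort ku} (φ : ∀ n, M n) {z : M Nat.zero} {s : ∀ n, M n → M (Nat.succ n)} (h0 : φ Nat.zero = z) (hs : ∀ n, φ (Nat.succ n) = s n (φ n)) (n : Nat) : φ n = @Nat.rec M z s n := Nat.rec h0 (fun n ih => (hs n).trans (congrArg (s n) ih)) n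
private noncomputable def _root_.Cfsg.Agent.KOfc0ae0f.k6 : (@Nat → ((@List.{0} @Nat) → @List.{0} @Nat)) := @(fun (x0 : @Nat) (x1 : @List.{0} @Nat) => @Nat.rec.{1} @(fun (x2 : @Nat) => ((@List.{0} @Nat) → @List.{0} @Nat)) @(fun (x2 : @List.{0} @Nat) => x2) @(fun (x2 : @Nat) (x3 : ((@List.{0} @Nat) → @List.{0} @Nat)) (x4 : @List.{0} @Nat) => @x3 (@List.cons.{0} @Nat @x2 @x4)) @x0 @x1)
private theorem _root_.Cfsg.Agent.KOfc0ae0f.e6 : @List.range.loop = @_root_.Cfsg.Agent.KOfc0ae0f.k6 := by delta _root_.Cfsg.Agent.KOfc0ae0f.k6; funext a0 a1; refine (congrFun (_root_.Cfsg.Agent.KOfc0ae0f.e5 (fun a0 a1 => @List.range.loop a0 a1) ?_ (fun c0 => ?_) a0) a1 :) <;> (rfl')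
private noncomputable def _root_.Cfsg.Agent.KOfc0ae0f.k7 : (by first | exact type_of% @Cfsg.Agent.H939.L64.subm | exact Unit : Sort _) := by first | (refine @Subtype.val _ (fun g => @Cfsg.Agent.H939.L64.subm = @g) (@Subtype.mk _ _ (@(fun (x0 : @Nat) => @Cfsg.Agent.KOfc0ae0f.k4.{0} @Nat @(fun (x1 : @Nat) => @Cfsg.Agent.KOfc0ae0f.k1.{1} @Bool (@Nat.land @x1 @x0) @x1 @Bool.false @Bool.true) (@Cfsg.Agent.KOfc0ae0f.k6 (@Nat.add @x0 (nat_lit 1)) (@List.nil.{0} @Nat)))) ?_); rewrite [← Cfsg.Agent.KOfc0ae0f.e4.{0}, ← Cfsg.Agent.KOfc0ae0f.e1.{1}, ← Cfsg.Agent.KOfc0ae0f.e6]; rfl') | exact @Cfsg.Agent.H939.L64.subm | exact ()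
private theorem _root_.Cfsg.Agent.KOfc0ae0f.e7 : (by first | exact @Cfsg.Agent.H939.L64.subm = @_root_.Cfsg.Agent.KOfc0ae0f.k7 | exact True : Prop) := by first | (delta _root_.Cfsg.Agent.KOfc0ae0f.k7; exact @Subtype.property _ (fun g => @Cfsg.Agent.H939.L64.subm = @g) _) | rfl | trivial
private noncomputable def _root_.Cfsg.Agent.KOfc0ae0f.k8 : (by first | exact type_of% @Cfsg.Agent.H939.L64.w65 | exact Unit : Sort _) := by first | (refine @Subtype.val _ (fun g => @Cfsg.Agent.H939.L64.w65 = @g) (@Subtype.mk _ _ (@(fun (x0 : @Nat) (x1 : @Nat) => @Cfsg.Agent.KOfc0ae0f.k3.{0} @Nat (@Cfsg.Agent.KOfc0ae0f.k4.{0} @Nat @(fun (x2 : @Nat) => @Cfsg.Agent.KOfc0ae0f.k1.{1} @Bool (@Nat.mod (@Nat.add (@Nat.mul (nat_lit 2) @x2) (@Nat.mul (nat_lit 64) @x0)) (nat_lit 65)) @x1 @Bool.false @Bool.true) (@Cfsg.Agent.KOfc0ae0f.k7 @x0)))) ?_); rewrite [← Cfsg.Agent.KOfc0ae0f.e3.{0}, ← Cfsg.Agent.KOfc0ae0f.e4.{0}, ← Cfsg.Agent.KOfc0ae0f.e1.{1}, ← Cfsg.Agent.KOfc0ae0f.e7];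 (try delta Cfsg.Agent.H939.L64.w65); (try generalize @Cfsg.Agent.H939.L64.subm = g0); rfl') | exact @Cfsg.Agent.H939.L64.w65 | exact ()
private theorem _root_.Cfsg.Agent.KOfc0ae0f.e8 : (by first | exact @Cfsg.Agent.H939.L64.w65 = @_root_.Cfsg.Agent.KOfc0ae0f.k8 | exact True : Prop) := by first | (delta _root_.Cfsg.Agent.KOfc0ae0f.k8; exact @Subtype.property _ (fun g => @Cfsg.Agent.H939.L64.w65 = @g) _) | rfl | trivial
private noncomputable def _root_.Cfsg.Agent.KOfc0ae0f.k10.{ku0} : ((x0 : Sort (ku0+1)) → ((@List.{ku0} @x0) → (@Nat → @Option.{ku0} @x0))) := @(fun (x0 : Sort (ku0+1)) (x1 : @List.{ku0} @x0) (x2 : @Nat) => @List.rec.{(ku0+1), ku0} @x0 @(fun (x3 : @List.{ku0} @x0) => (@Nat → @Option.{ku0} @x0)) @(fun (x3 : @Nat) => @Option.none.{ku0} @x0) @(fun (x3 : x0) (x4 : @List.{ku0} @x0) (x5 : (@Nat → @Option.{ku0} @x0)) (x6 : @Nat) => @Nat.rec.{(ku0+1)} @(fun (x7 : @Nat) => @Option.{ku0} @x0) (@Option.some.{ku0} @x0 @x3) @(fun (x7 : @Nat) (x8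 : @Option.{ku0} @x0) => @x5 @x7) @x6) @x1 @x2)
private theorem _root_.Cfsg.Agent.KOfc0ae0f.e10.{ku0} : @List.get?Internal.{ku0} = @_root_.Cfsg.Agent.KOfc0ae0f.k10.{ku0} := by delta _root_.Cfsg.Agent.KOfc0ae0f.k10; funext a0 a1 a2; refine (congrFun (_root_.Cfsg.Agent.KOfc0ae0f.e2 (fun a1 a2 => @List.get?Internal.{ku0} a0 a1 a2) ?_ (fun c0 c1 => ?_) a1) a2 :) <;> [(funext b0; (rfl')); (funext b0; (cases b0 with | @zero  => (rfl') | @succ b0_0 => (rfl')))]
private noncomputable def _root_.Cfsg.Agent.KOfc0ae0f.k11.{ku0} : ((x0 : Sort (ku0+1)) → ((@List.{ku0} @x0) → (@Nat → (x0 → x0)))) := @(fun (x0 : Sort (ku0+1)) (x1 : @List.{ku0} @x0) (x2 : @Nat) (x3 : x0) => @Option.rec.{(ku0+1), ku0} @x0 @(fun (x4 : @Option.{ku0} @x0) => x0) @x3 @(fun (x4 : x0) => x4) (@Cfsg.Agent.KOfc0ae0f.k10.{ku0} @x0 @x1 @x2))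
private theorem _root_.Cfsg.Agent.KOfc0ae0f.e11.{ku0} : @List.getD.{ku0} = @_root_.Cfsg.Agent.KOfc0ae0f.k11.{ku0} := by delta _root_.Cfsg.Agent.KOfc0ae0f.k11; rewrite [← Cfsg.Agent.KOfc0ae0f.e10.{ku0}]; rfl'
private noncomputable def _root_.Cfsg.Agent.KOfc0ae0f.k12l (n : Nat) (P : ∀ k, k < n → Prop) (H : ∀ k h, Decidable (P k h)) (m : Nat) : m ≤ n → Bool := @Nat.rec (fun m => m ≤ n → Bool) (fun _ => true) (fun k ih h => @Decidable.rec (P k h) (fun _ => Bool) (fun _ => false) (fun _ => ih (Nat.le_of_succ_le h)) (H k h)) m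
private theorem _root_.Cfsg.Agent.KOfc0ae0f.k12ls (n : Nat) (P : ∀ k, k < n → Prop) (H : ∀ k h, Decidable (P k h)) (m : Nat) : ∀ h : m ≤ n, _root_.Cfsg.Agent.KOfc0ae0f.k12l n P H m h = true ↔ ∀ k (g : k < m), P k (Nat.lt_of_lt_of_le g h) := by induction m with | zero => exact fun _ => ⟨fun _ _ g => absurd g (Nat.not_lt_zero _), fun _ => rfl⟩ | succ m ih => intro h; show @Decidable.rec (P m h) (fun _ => Bool) (fun _ => false) (fun _ => _root_.Cfsg.Agent.KOfc0ae0f.k12l n P H m (Nat.le_of_succ_le h)) (H m h) = true ↔ _; cases H m h with | isFalse q => exact ⟨fun g => absurd g Bool.false_ne_true, fun g => absurd (g m (Nat.lt_succ_self m)) q⟩ | isTrue q => exact ⟨fun g k hk => (Nat.lt_succ_iff_lt_or_eq.1 hk).elim ((ih _).1 g k) fun e => by subst e; exact q, fun g => (ih _).2 fun k hk => g k (Nat.lt_succ_of_lt hk)⟩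
private noncomputable def _root_.Cfsg.Agent.KOfc0ae0f.k12 (n : Nat) (P : ∀ k, k < n → Prop) (H : ∀ k h, Decidable (P k h)) : Decidable (∀ k h, P k h) := @Bool.rec (fun b => _root_.Cfsg.Agent.KOfc0ae0f.k12l n P H n (Nat.le_refl n) = b → Decidable (∀ k h, P k h)) (fun g => isFalse fun q => Bool.false_ne_true (g.symm.trans ((_root_.Cfsg.Agent.KOfc0ae0f.k12ls n P H n _).2 fun k h => q k h))) (fun g => isTrue fun k h => (_root_.Cfsg.Agent.KOfc0ae0f.k12ls n P H n _).1 g k h) (_root_.Cfsg.Agent.KOfc0ae0f.k12l n P H n (Nat.le_refl n)) rfl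
private theorem _root_.Cfsg.Agent.KOfc0ae0f.e12 : @Nat.decidableBallLT = @_root_.Cfsg.Agent.KOfc0ae0f.k12 := funext fun _ => funext fun _ => funext fun _ => Subsingleton.elim _ _
private noncomputable def _root_.Cfsg.Agent.KOfc0ae0f.k13 : ((x0 : @Nat) → ((x1 : @Nat) → @Decidable (@Eq.{1} @Nat @x0 @x1))) := @(fun (x0 : @Nat) (x1 : @Nat) => @Bool.rec.{1} @(fun (x2 : @Bool) => ((@Eq.{1} @Bool (@Nat.beq @x0 @x1) @x2) → @Decidable (@Eq.{1} @Nat @x0 @x1))) @(fun (x2 : @Eq.{1} @Bool (@Nat.beq @x0 @x1) @Bool.false) => @Decidable.isFalse (@Eq.{1} @Nat @x0 @x1) (@Nat.ne_of_beq_eq_false @x0 @x1 @x2)) @(fun (x2 : @Eq.{1} @Bool (@Nat.beq @x0 @x1) @Bool.true) => @Decidable.isTrue (@Eq.{1} @Nat @x0 @x1) (@Nat.eq_of_beq_eq_true @x0 @x1 @x2)) (@Nat.beq @x0 @x1) (@Eq.refl.{1} @Bool (@Nat.beq @x0 @x1)))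
private theorem _root_.Cfsg.Agent.KOfc0ae0f.e13 : @Nat.decEq = @_root_.Cfsg.Agent.KOfc0ae0f.k13 := by delta _root_.Cfsg.Agent.KOfc0ae0f.k13; rfl'
private noncomputable def _root_.Cfsg.Agent.KOfc0ae0f.k14 : @DecidableEq.{1} @Nat := @Cfsg.Agent.KOfc0ae0f.k13
private theorem _root_.Cfsg.Agent.KOfc0ae0f.e14 : @instDecidableEqNat = @_root_.Cfsg.Agent.KOfc0ae0f.k14 := by delta _root_.Cfsg.Agent.KOfc0ae0f.k14; rewrite [← Cfsg.Agent.KOfc0ae0f.e13]; rfl'

theorem tabW_65 : ∀ b < 64, ∀ j < 33, w65 b j = (tabW.getD b []).getD j 0 := by (first | (refine of_decide_eq_true ?_; rewrite [Cfsg.Agent.KOfc0ae0f.e0, Cfsg.Agent.KOfc0ae0f.e8, Cfsg.Agent.KOfc0ae0f.e11.{0}, Cfsg.Agent.KOfc0ae0f.e12, Cfsg.Agent.KOfc0ae0f.e14]; decide +kernel) | decide +kernel)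

private noncomputable def _root_.Cfsg.Agent.KOfc0ae0f.k15 : (by first | exact type_of% @Cfsg.Agent.H939.L64.w63 | exact Unit : Sort _) := by first | (refine @Subtype.val _ (fun g => @Cfsg.Agent.H939.L64.w63 = @g) (@Subtype.mk _ _ (@(fun (x0 : @Nat) (x1 : @Nat) => @Cfsg.Agent.KOfc0ae0f.k3.{0} @Nat (@Cfsg.Agent.KOfc0ae0f.k4.{0} @Nat @(fun (x2 : @Nat) => @Cfsg.Agent.KOfc0ae0f.k1.{1} @Bool (@Nat.mod (@Nat.add (@Nat.mul (nat_lit 2) @x2) (@Nat.mul (nat_lit 62) @x0)) (nat_lit 63)) @x1 @Bool.false @Bool.true) (@Cfsg.Agent.KOfc0ae0f.k7 @x0)))) ?_); rewrite [← Cfsg.Agent.KOfc0ae0f.e3.{0}, ← Cfsg.Agent.KOfc0ae0f.e4.{0}, ← Cfsg.Agent.KOfc0ae0f.e1.{1}, ← Cfsg.Agent.KOfc0ae0f.e7]; (try delta Cfsg.Agent.H939.L64.w63); (try generalize @Cfsg.Agent.H939.L64.subm = g0); rfl') | exact @Cfsg.Agent.H939.L64.w63 | exact ()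
private theorem _root_.Cfsg.Agent.KOfc0ae0f.e15 : (by first | exact @Cfsg.Agent.H939.L64.w63 = @_root_.Cfsg.Agent.KOfc0ae0f.k15 | exact True : Prop) := by first | (delta _root_.Cfsg.Agent.KOfc0ae0f.k15; exact @Subtype.property _ (fun g => @Cfsg.Agent.H939.L64.w63 = @g) _) | rfl | trivial

theorem tabW_63 : ∀ b < 64, ∀ j < 32, w63 b j = (tabW.getD b []).getD (33 + j) 0 := by (first | (refine of_decide_eq_true ?_; rewrite [Cfsg.Agent.KOfc0ae0f.e0, Cfsg.Agent.KOfc0ae0f.e15, Cfsg.Agent.KOfc0ae0f.e11.{0}, Cfsg.Agent.KOfc0ae0f.e12, Cfsg.Agent.KOfc0ae0f.e14]; decide +kernel) | decide +kernel)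

/-- the certificate for the rows `k`, ..., `k + 7` (split: memory of the kernel check) -/
def tabC (k : ℕ) : Prop := ∀ b < 8, ∀ b' < 64, dotL (tabP.getD (k + b) []) (tabW.getD b' []) =
    dotL (tabN.getD (k + b) []) (tabW.getD b' []) + if b' = k + b then 1 else 0

instance (k : ℕ) : Decidable (tabC k) := by
  unfold tabC
  infer_instance

private noncomputable def _root_.Cfsg.Agent.LsF.f413f14_0 : {f // @Cfsg.Agent.H875.L64.dotL = f} := ⟨_, by first | (delta Cfsg.Agent.H875.L64.dotL; rewrite [Cfsg.Agent.LsF.nadd_pat, Cfsg.Agent.LsF.nmul_pat, Cfsg.Agent.LsF.foldr_eq, Cfsg.Agent.LsF.zipWith_eq]; exact rfl) | exact rfl⟩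
theorem tab_cert0 : tabC 0 := by (refine of_decide_eq_true ?_; (try (delta Cfsg.Agent.H875.L64.instDecidableTabC Cfsg.Agent.H875.L64.tabC; rewrite [Cfsg.Agent.LsF.f413f14_0.2, Cfsg.Agent.LsF.nadd_pat, Cfsg.Agent.LsF.instDecEq_eq, Cfsg.Agent.LsF.getD_eq, Cfsg.Agent.LsF.dBallLT_eq, Cfsg.Agent.LsF.ite_eq, Cfsg.Agent.LsF.decide_eq])); decide +kernel)

theorem tab_cert8 : tabC 8 := by (refine of_decide_eq_true ?_; (try (delta Cfsg.Agent.H875.L64.instDecidableTabC Cfsg.Agent.H875.L64.tabC; rewrite [Cfsg.Agent.LsF.f413f14_0.2, Cfsg.Agent.LsF.nadd_pat, Cfsg.Agent.LsF.instDecEq_eq, Cfsg.Agent.LsF.getD_eq, Cfsg.Agent.LsF.dBallLT_eq, Cfsg.Agent.LsF.ite_eq, Cfsg.Agent.LsF.decide_eq])); decide +kernel)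

theorem tab_cert16 : tabC 16 := by (refine of_decide_eq_true ?_; (try (delta Cfsg.Agent.H875.L64.instDecidableTabC Cfsg.Agent.H875.L64.tabC; rewrite [Cfsg.Agent.LsF.f413f14_0.2, Cfsg.Agent.LsF.nadd_pat, Cfsg.Agent.LsF.instDecEq_eq, Cfsg.Agent.LsF.getD_eq, Cfsg.Agent.LsF.dBallLT_eq, Cfsg.Agent.LsF.ite_eq, Cfsg.Agent.LsF.decide_eq])); decide +kernel)

theorem tab_cert24 : tabC 24 := by (refine of_decide_eq_true ?_; (try (delta Cfsg.Agent.H875.L64.instDecidableTabC Cfsg.Agent.H875.L64.tabC; rewrite [Cfsg.Agent.LsF.f413f14_0.2, Cfsg.Agent.LsF.nadd_pat, Cfsg.Agent.LsF.instDecEq_eq, Cfsg.Agent.LsF.getD_eq, Cfsg.Agent.LsF.dBallLT_eq, Cfsg.Agent.LsF.ite_eq, Cfsg.Agent.LsF.decide_eq])); decide +kernel)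

theorem tab_cert32 : tabC 32 := by (refine of_decide_eq_true ?_; rewrite [Cfsg.Agent.KOfc0ae0f.e0]; ((try (delta Cfsg.Agent.H875.L64.instDecidableTabC Cfsg.Agent.H875.L64.tabC; rewrite [Cfsg.Agent.LsF.f413f14_0.2, Cfsg.Agent.LsF.nadd_pat, Cfsg.Agent.LsF.instDecEq_eq, Cfsg.Agent.LsF.getD_eq, Cfsg.Agent.LsF.dBallLT_eq, Cfsg.Agent.LsF.ite_eq])); decide +kernel))

theorem tab_cert40 : tabC 40 := by (refine of_decide_eq_true ?_; (try (delta Cfsg.Agent.H875.L64.instDecidableTabC Cfsg.Agent.H875.L64.tabC; rewrite [Cfsg.Agent.LsF.f413f14_0.2, Cfsg.Agent.LsF.nadd_pat, Cfsg.Agent.LsF.instDecEq_eq, Cfsg.Agent.LsF.getD_eq, Cfsg.Agent.LsF.dBallLT_eq, Cfsg.Agent.LsF.ite_eq, Cfsg.Agent.LsF.decide_eq])); decide +kernel)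

theorem tab_cert48 : tabC 48 := by (refine of_decide_eq_true ?_; (try (delta Cfsg.Agent.H875.L64.instDecidableTabC Cfsg.Agent.H875.L64.tabC; rewrite [Cfsg.Agent.LsF.f413f14_0.2, Cfsg.Agent.LsF.nadd_pat, Cfsg.Agent.LsF.instDecEq_eq, Cfsg.Agent.LsF.getD_eq, Cfsg.Agent.LsF.dBallLT_eq, Cfsg.Agent.LsF.ite_eq, Cfsg.Agent.LsF.decide_eq])); decide +kernel)

theorem tab_cert56 : tabC 56 := by (refine of_decide_eq_true ?_; (try (delta Cfsg.Agent.H875.L64.instDecidableTabC Cfsg.Agent.H875.L64.tabC; rewrite [Cfsg.Agent.LsF.f413f14_0.2, Cfsg.Agent.LsF.nadd_pat, Cfsg.Agent.LsF.instDecEq_eq, Cfsg.Agent.LsF.getD_eq, Cfsg.Agent.LsF.dBallLT_eq, Cfsg.Agent.LsF.ite_eq, Cfsg.Agent.LsF.decide_eq])); decide +kernel)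

theorem tab_cert : ∀ b < 64, ∀ b' < 64, dotL (tabP.getD b []) (tabW.getD b' []) =
    dotL (tabN.getD b []) (tabW.getD b' []) + if b' = b then 1 else 0 := by
  intro b hb
  have key : ∀ k, tabC k → ∀ c < 8, ∀ b' < 64, dotL (tabP.getD (k + c) []) (tabW.getD b' []) =
      dotL (tabN.getD (k + c) []) (tabW.getD b' []) + if b' = k + c then 1 else 0 := fun k h => h
  rcases Nat.lt_or_ge b 8 with h | h
  · have := key 0 tab_cert0 b h
    rwa [Nat.zero_add] at this
  rcases Nat.lt_or_ge b 16 with h1 | h1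
  · obtain ⟨c, rfl⟩ := Nat.exists_eq_add_of_le (show 8 ≤ b by omega)
    exact key 8 tab_cert8 c (by omega)
  rcases Nat.lt_or_ge b 24 with h2 | h2
  · obtain ⟨c, rfl⟩ := Nat.exists_eq_add_of_le (show 16 ≤ b by omega)
    exact key 16 tab_cert16 c (by omega)
  rcases Nat.lt_or_ge b 32 with h3 | h3
  · obtain ⟨c, rfl⟩ := Nat.exists_eq_add_of_le (show 24 ≤ b by omega)
    exact key 24 tab_cert24 c (by omega)
  rcases Nat.lt_or_ge b 40 with h4 | h4
  · obtain ⟨c, rfl⟩ := Nat.exists_eq_add_of_le (show 32 ≤ b by omega)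
    exact key 32 tab_cert32 c (by omega)
  rcases Nat.lt_or_ge b 48 with h5 | h5
  · obtain ⟨c, rfl⟩ := Nat.exists_eq_add_of_le (show 40 ≤ b by omega)
    exact key 40 tab_cert40 c (by omega)
  rcases Nat.lt_or_ge b 56 with h6 | h6
  · obtain ⟨c, rfl⟩ := Nat.exists_eq_add_of_le (show 48 ≤ b by omega)
    exact key 48 tab_cert48 c (by omega)
  rcases Nat.lt_or_ge b 64 with h7 | h7
  · obtain ⟨c, rfl⟩ := Nat.exists_eq_add_of_le (show 56 ≤ b by omega)
    exact key 56 tab_cert56 c (by omega)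
  omega

private noncomputable def _root_.Cfsg.Agent.KOfc0ae0f.k23 : ((x0 : Prop) → ((x1 : Prop) → ((@Decidable @x0) → ((@Decidable @x1) → @Decidable (@And @x0 @x1))))) := @(fun (x0 : Prop) (x1 : Prop) (x2 : @Decidable @x0) (x3 : @Decidable @x1) => @Decidable.rec.{1} @x0 @(fun (x4 : @Decidable @x0) => @Decidable (@And @x0 @x1)) @(fun (x4 : @Not @x0) => @Decidable.isFalse (@And @x0 @x1) (@instDecidableAnd._proof_2 @x0 @x1 @x4)) @(fun (x4 : x0) => @Decidable.rec.{1} @x1 @(fun (x5 : @Decidable @x1) => @Decidable (@And @x0 @x1)) @(fun (x5 : @Not @x1) => @Decidable.isFalse (@And @x0 @x1) (@instDecidableAnd._proof_1 @x0 @x1 @x5)) @(fun (x5 : x1) => @Decidable.isTrue (@And @x0 @x1) (@And.intro @x0 @x1 @x4 @x5)) @x3) @x2)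
private theorem _root_.Cfsg.Agent.KOfc0ae0f.e23 : @instDecidableAnd = @_root_.Cfsg.Agent.KOfc0ae0f.k23 := by delta _root_.Cfsg.Agent.KOfc0ae0f.k23; rfl'

theorem tab_len : ∀ b < 64, (tabW.getD b []).length = 65 ∧ (tabP.getD b []).length = 65 ∧
    (tabN.getD b []).length = 65 := by (first | (refine of_decide_eq_true ?_; rewrite [Cfsg.Agent.KOfc0ae0f.e0, Cfsg.Agent.KOfc0ae0f.e3.{0}, Cfsg.Agent.KOfc0ae0f.e11.{0}, Cfsg.Agent.KOfc0ae0f.e12, Cfsg.Agent.KOfc0ae0f.e23, Cfsg.Agent.KOfc0ae0f.e14]; decide +kernel) | decide +kernel)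

theorem dotL_eq : ∀ (n : ℕ) (a b : List ℕ), a.length = n → b.length = n →
    dotL a b = ∑ i ∈ Finset.range n, a.getD i 0 * b.getD i 0
  | 0, a, b, ha, hb => by
    rw [List.length_eq_zero_iff.1 ha, List.length_eq_zero_iff.1 hb]
    rfl
  | n + 1, [], b, ha, hb => by simp at ha
  | n + 1, x :: a, [], ha, hb => by simp at hb
  | n + 1, x :: a, y :: b, ha, hb => by
    rw [Finset.sum_range_succ']
    have h1 := dotL_eq n a b (by simpa using ha) (by simpa using hb)
    simp only [List.getD_cons_succ, List.getD_cons_zero]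
    rw [← h1, add_comm]
    rfl

/-- one row of the certificate -/
theorem tab_row {b : ℕ} (hb : b < 64) {b' : ℕ} (hb' : b' < 64) :
    ∑ i ∈ Finset.range 65, (tabP.getD b []).getD i 0 * (tabW.getD b' []).getD i 0 =
      (∑ i ∈ Finset.range 65, (tabN.getD b []).getD i 0 * (tabW.getD b' []).getD i 0) + if b' = b then 1 else 0 := by
  have h1 := tab_cert b hb b' hb'
  rw [dotL_eq 65 _ _ (tab_len b hb).2.1 (tab_len b' hb').1, dotL_eq 65 _ _ (tab_len b hb).2.2 (tab_len b' hb').1] at h1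
  exact h1

/-- **R3b** : the multiplicities are determined by the spectra -/
theorem R3b (m m' : ℕ → ℤ)
    (h65 : ∀ j < 65, ∑ b ∈ Finset.range 64, m b * (w65 b j : ℤ) = ∑ b ∈ Finset.range 64, m' b * (w65 b j : ℤ))
    (h63 : ∀ j < 63, ∑ b ∈ Finset.range 64, m b * (w63 b j : ℤ) = ∑ b ∈ Finset.range 64, m' b * (w63 b j : ℤ)) :
    ∀ b < 64, m b = m' b := by
  have key : ∀ i < 65, ∑ b ∈ Finset.range 64, m b * (((tabW.getD b []).getD i 0 : ℕ) : ℤ) =
      ∑ b ∈ Finset.range 64, m' b * (((tabW.getD b []).getD i 0 : ℕ) : ℤ) := by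
    intro i hi
    by_cases h : i < 33
    · have e : ∀ m : ℕ → ℤ, ∑ b ∈ Finset.range 64, m b * (((tabW.getD b []).getD i 0 : ℕ) : ℤ) =
          ∑ b ∈ Finset.range 64, m b * (w65 b i : ℤ) := fun m => Finset.sum_congr rfl fun b hb => by
        rw [tabW_65 b (Finset.mem_range.1 hb) i h]
      rw [e, e, h65 i (by omega)]
    · obtain ⟨j, rfl⟩ := Nat.exists_eq_add_of_le (not_lt.1 h)
      have e : ∀ m : ℕ → ℤ, ∑ b ∈ Finset.range 64, m b * (((tabW.getD b []).getD (33 + j) 0 : ℕ) : ℤ) =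
          ∑ b ∈ Finset.range 64, m b * (w63 b j : ℤ) := fun m => Finset.sum_congr rfl fun b hb => by
        rw [tabW_63 b (Finset.mem_range.1 hb) j (by omega)]
      rw [e, e, h63 j (by omega)]
  -- the value of `m b`
  have hval : ∀ (m : ℕ → ℤ) (b : ℕ), b < 64 → m b = ∑ i ∈ Finset.range 65,
      ((((tabP.getD b []).getD i 0 : ℕ) : ℤ) - (((tabN.getD b []).getD i 0 : ℕ) : ℤ)) *
        ∑ b' ∈ Finset.range 64, m b' * (((tabW.getD b' []).getD i 0 : ℕ) : ℤ) := by
    intro m b hb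
    have e : ∀ b' ∈ Finset.range 64, m b' * (if b' = b then 1 else 0) = ∑ i ∈ Finset.range 65,
        ((((tabP.getD b []).getD i 0 : ℕ) : ℤ) - (((tabN.getD b []).getD i 0 : ℕ) : ℤ)) *
          (m b' * (((tabW.getD b' []).getD i 0 : ℕ) : ℤ)) := by
      intro b' hb'
      have h1 := congrArg (fun n : ℕ => (n : ℤ)) (tab_row hb (Finset.mem_range.1 hb'))
      have h2 : ((if b' = b then (1 : ℕ) else 0 : ℕ) : ℤ) = if b' = b then 1 else 0 := by split_ifs <;> rfl
      simp only [Nat.cast_add, Nat.cast_sum, Nat.cast_mul, h2] at h1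
      rw [← sub_eq_iff_eq_add'] at h1
      rw [← h1, ← Finset.sum_sub_distrib, Finset.mul_sum]
      exact Finset.sum_congr rfl fun i _ => by ring
    simp_rw [Finset.mul_sum]
    rw [Finset.sum_comm, ← Finset.sum_congr rfl e, Finset.sum_eq_single b]
    · rw [if_pos rfl, mul_one]
    · intro c _ hc
      rw [if_neg hc, mul_zero]
    · intro hc
      exact absurd (Finset.mem_range.2 hb) hc
  intro b hb
  rw [hval m b hb, hval m' b hb]
  exact Finset.sum_congr rfl fun i hi => by rw [key i (Finset.mem_range.1 hi)]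

end Cfsg.Agent.H875.L64
end

-- part: H875/L64/Add
section
/-!
# S5915, R3c: the multiplicities are additive (helper875)
-/

set_option autoImplicit false

namespace Cfsg.Agent.H875.L64

open Matrix Cfsg.Agent.H943.SL2Rel Cfsg.Agent.H943.RepAdd Cfsg.Agent.H943.SL2Mod Cfsg.Agent.H939.L64

variable {k : Type} [Field k] [CharP k 2] {F : Type} [Field F] [Fintype F] [DecidableEq F] {ι : F →+* k}
  {lam : Fˣ} {y : SpecialLinearGroup (Fin 2) F} {ζ : k}

omit [CharP k 2] in
theorem lam_pow (D : Dat ι lam y ζ) : h lam ^ 63 = 1 := by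
  rw [← h_pow, ← h_one]
  congr 1
  have h1 : Fintype.card Fˣ = 63 := by rw [Fintype.card_units, D.card]
  rw [← h1, pow_card_eq_one]

omit [CharP k 2] [DecidableEq F] in
theorem y_pow (D : Dat ι lam y ζ) : y ^ 65 = 1 := by
  have hζ0 : ζ ≠ 0 := D.prim.ne_zero (by norm_num)
  have hne : ζ ≠ ζ⁻¹ := by
    intro e
    have h1 : ζ ^ 2 = 1 := by
      rw [pow_two]
      nth_rw 2 [e]
      exact mul_inv_cancel₀ hζ0
    have h2 := D.prim.dvd_of_pow_eq_one 2 h1
    norm_num at h2
  -- the polynomial identity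
  have h1 : (Polynomial.X - Polynomial.C ζ) * (Polynomial.X - Polynomial.C ζ⁻¹) ∣
      (Polynomial.X ^ 65 - 1 : Polynomial k) := by
    refine IsCoprime.mul_dvd (Polynomial.isCoprime_X_sub_C_of_isUnit_sub (sub_ne_zero.2 hne).isUnit) ?_ ?_
    · rw [Polynomial.dvd_iff_isRoot]
      simp [Polynomial.IsRoot, D.prim.pow_eq_one]
    · rw [Polynomial.dvd_iff_isRoot]
      simp [Polynomial.IsRoot, D.prim.pow_eq_one]
  obtain ⟨Q, hQ⟩ := h1
  set Y : Matrix (Fin 2) (Fin 2) k := y.1.map ι with hY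
  have hdet : Y 0 0 * Y 1 1 - Y 0 1 * Y 1 0 = 1 := by
    have h2 := y.2
    rw [Matrix.det_fin_two] at h2
    have h3 := congrArg ι h2
    rw [map_sub, map_mul, map_mul, map_one] at h3
    exact h3
  have htr : Y 0 0 + Y 1 1 = ζ + ζ⁻¹ := by
    rw [← D.tr, map_add]
    rfl
  have h2 : Polynomial.aeval Y ((Polynomial.X - Polynomial.C ζ) * (Polynomial.X - Polynomial.C ζ⁻¹)) = 0 := by
    have e : ((Polynomial.X - Polynomial.C ζ) * (Polynomial.X - Polynomial.C ζ⁻¹) : Polynomial k) =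
        Polynomial.X ^ 2 - Polynomial.C (ζ + ζ⁻¹) * Polynomial.X + Polynomial.C (ζ * ζ⁻¹) := by
      rw [Polynomial.C_add, Polynomial.C_mul]
      ring
    rw [e, mul_inv_cancel₀ hζ0, ← htr]
    simp only [map_add, map_sub, map_mul, map_pow, Polynomial.aeval_X, Polynomial.aeval_C, map_one]
    rw [Algebra.algebraMap_eq_smul_one, Algebra.algebraMap_eq_smul_one]
    ext i j
    fin_cases i <;> fin_cases j <;>
      simp [pow_two, Matrix.mul_apply, Fin.sum_univ_two, Matrix.smul_apply, Matrix.add_mul]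
    · linear_combination -hdet
    · ring
    · ring
    · linear_combination -hdet
  have h3 : Y ^ 65 = 1 := by
    have h4 := congrArg (Polynomial.aeval Y) hQ
    rw [map_mul, h2, zero_mul, map_sub, map_pow, Polynomial.aeval_X, map_one] at h4
    exact sub_eq_zero.1 h4
  have h4 : (Matrix.SpecialLinearGroup.map ι y) ^ 65 = 1 := by
    apply Subtype.ext
    rw [Matrix.SpecialLinearGroup.coe_pow]
    exact h3
  rw [← map_pow, ← map_one (Matrix.SpecialLinearGroup.map ι)] at h4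
  apply Subtype.ext
  ext i j
  have h7 := congrFun (congrFun (congrArg Subtype.val h4) i) j
  exact ι.injective h7

/-- the spectra are additive -/
theorem spec_add (D : Dat ι lam y ζ) {V : Type} [AddCommGroup V] [Module k V] [FiniteDimensional k V]
    (ρ : Representation k (SpecialLinearGroup (Fin 2) F) V) (W : Submodule k V) (hW : ∀ g, ∀ x ∈ W, ρ g x ∈ W)
    (j : ℕ) : e65 ρ y ζ j = e65 (subRep ρ W hW) y ζ j + e65 (quotRep ρ W hW) y ζ j ∧
      e63 ι ρ lam j = e63 ι (subRep ρ W hW) lam j + e63 ι (quotRep ρ W hW) lam j := by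
  have h20 : (2 : k) = 0 := CharTwo.two_eq_zero
  have h65 : ((65 : ℕ) : k) ≠ 0 := by
    have e : ((65 : ℕ) : k) = 2 * 32 + 1 := by push_cast; ring
    rw [e, h20, zero_mul, zero_add]
    exact one_ne_zero
  have h63 : ((63 : ℕ) : k) ≠ 0 := by
    have e : ((63 : ℕ) : k) = 2 * 31 + 1 := by push_cast; ring
    rw [e, h20, zero_mul, zero_add]
    exact one_ne_zero
  have hζ0 : ζ ≠ 0 := D.prim.ne_zero (by norm_num)
  have hl0 : ι lam ≠ 0 := (map_ne_zero ι).2 lam.ne_zero
  have hl63 : ι lam ^ 63 = 1 := by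
    have h3 : lam ^ 63 = 1 := by
      have h1 : Fintype.card Fˣ = 63 := by rw [Fintype.card_units, D.card]
      rw [← h1, pow_card_eq_one]
    rw [← map_pow, ← Units.val_pow_eq_pow_val, h3, Units.val_one, map_one]
  constructor
  · exact finrank_eig ρ W hW (n := 65) (by rw [← map_pow, y_pow D, map_one]) h65
      (by rw [← pow_mul, mul_comm, pow_mul, D.prim.pow_eq_one, one_pow]) (pow_ne_zero _ hζ0)
  · exact finrank_eig ρ W hW (n := 63) (by rw [← map_pow, lam_pow D, map_one]) h63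
      (by rw [← pow_mul, mul_comm, pow_mul, hl63, one_pow]) (pow_ne_zero _ hl0)

/-- **R3c** : the multiplicities are additive -/
theorem R3c (D : Dat ι lam y ζ) {V : Type} [AddCommGroup V] [Module k V] [FiniteDimensional k V]
    (ρ : Representation k (SpecialLinearGroup (Fin 2) F) V) (W : Submodule k V) (hW : ∀ g, ∀ x ∈ W, ρ g x ∈ W)
    {m m1 m2 : ℕ → ℕ} (h : SpecM ι ρ lam y ζ m) (h1 : SpecM ι (subRep ρ W hW) lam y ζ m1)
    (h2 : SpecM ι (quotRep ρ W hW) lam y ζ m2) : ∀ b < 64, m b = m1 b + m2 b := by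
  have key := R3b (fun b => (m b : ℤ)) (fun b => (m1 b : ℤ) + (m2 b : ℤ)) (fun j hj => ?_) (fun j hj => ?_)
  · intro b hb
    have := key b hb
    exact_mod_cast this
  · have e := (spec_add D ρ W hW j).1
    rw [h.1 j hj, h1.1 j hj, h2.1 j hj] at e
    have e' := congrArg (fun n : ℕ => (n : ℤ)) e
    push_cast at e'
    simp only [add_mul, Finset.sum_add_distrib]
    exact e'
  · have e := (spec_add D ρ W hW j).2
    rw [h.2 j hj, h1.2 j hj, h2.2 j hj] at e
    have e' := congrArg (fun n : ℕ => (n : ℤ)) e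
    push_cast at e'
    simp only [add_mul, Finset.sum_add_distrib]
    exact e'

omit [CharP k 2] [Fintype F] [DecidableEq F] in
/-- uniqueness of the multiplicities -/
theorem specM_unique {V : Type} [AddCommGroup V] [Module k V]
    {ρ : Representation k (SpecialLinearGroup (Fin 2) F) V} {m m' : ℕ → ℕ} (h : SpecM ι ρ lam y ζ m)
    (h' : SpecM ι ρ lam y ζ m') : ∀ b < 64, m b = m' b := by
  have key := R3b (fun b => (m b : ℤ)) (fun b => (m' b : ℤ)) (fun j hj => ?_) (fun j hj => ?_)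
  · intro b hb
    have := key b hb
    exact_mod_cast this
  · have e := (h.1 j hj).symm.trans (h'.1 j hj)
    exact_mod_cast e
  · have e := (h.2 j hj).symm.trans (h'.2 j hj)
    exact_mod_cast e

end Cfsg.Agent.H875.L64
end
end

-- part: H939/L64/RWrap
section
prune_inst 0x40000000000000000000000000000000000002000000000000000000000000000800000901000020000000000010040000000200000000000000000000000000000000400400000000000000000000000000000000000000000000000000000000000000
set_option linter.all false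
open scoped Cfsg.Agent.FastGrp

-- part: H179/SLC/Press
section
/-!
# S5915: the pressure inequality PR (helper179; uniqueness: helper875)
-/

set_option autoImplicit false

namespace Cfsg.Agent.H179.SLC

open Matrix Cfsg.Agent.H943.SL2Rel Cfsg.Agent.H943.RepAdd Cfsg.Agent.H943.SL2Mod Cfsg.Agent.H939.L64

universe v

/-- **PR** -/
theorem PR {k : Type*} [Field k] [IsAlgClosed k] [CharP k 2] {F : Type*} [Field F] [Fintype F] [DecidableEq F]
    {ι : F →+* k} {lam : Fˣ} {y : _root_.Matrix.SpecialLinearGroup (Fin 2) F} {ζ : k} (D : Dat ι lam y ζ) {V : Type v} [AddCommGroup V]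
    [Module k V] [FiniteDimensional k V] (ρ : Representation k (_root_.Matrix.SpecialLinearGroup (Fin 2) F) V) {m : ℕ → ℕ}
    (hm : SpecM ι ρ lam y ζ m) : m 0 ≤ Module.finrank k (fixS ρ) + ∑ i ∈ Finset.range 6, m (2 ^ i) := by
  obtain ⟨n, hn, h⟩ := exists_pressure D ρ
  have h1 : ∀ b < 64, m b = n b := by
    intro b hb
    have h2 := H875.L64.R3b (fun b => (m b : ℤ)) (fun b => (n b : ℤ)) (fun j hj => by
      have h3 := (hm.1 j hj).symm.trans (hn.1 j hj)
      exact_mod_cast h3) (fun j hj => by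
      have h3 := (hm.2 j hj).symm.trans (hn.2 j hj)
      exact_mod_cast h3) b hb
    exact_mod_cast h2
  rw [h1 0 (by norm_num)]
  refine h.trans_eq ?_
  congr 1
  refine Finset.sum_congr rfl fun i hi => (h1 _ ?_).symm
  have : 2 ^ i < 2 ^ 6 := Nat.pow_lt_pow_right (by norm_num) (Finset.mem_range.1 hi)
  omega

end Cfsg.Agent.H179.SLC
end

-- part: H280/L64/Tab
section
/-!
# S5915, R6: tables (helper280)
-/

set_option autoImplicit false
set_option maxRecDepth 100000

namespace Cfsg.Agent.H280.L64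

open Cfsg.Agent.H939.L64

/-- the Frobenius twist on the labels of the simple modules -/
def dbl (b : ℕ) : ℕ := if b = 63 then 63 else 2 * b % 63

private theorem w_perm (f f' g : ℕ → ℕ) (l l' : List ℕ) (j : ℕ)
    (hp : ((l'.map f').isPerm (l.map fun m => g (f m))) = true) (hg : ∀ m, g (f m) = g j → f m = j) :
    (l'.filter fun m => f' m == g j).length = (l.filter fun m => f m == j).length := by
  rw [← List.countP_eq_length_filter, ← List.countP_eq_length_filter]
  have h1 := (List.isPerm_iff.1 hp).countP_eq (· == g j)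
  rw [List.countP_map, List.countP_map] at h1
  exact h1.trans (List.countP_congr fun m _ =>
    ⟨fun h => beq_iff_eq.2 (hg m (beq_iff_eq.1 h)), fun h => beq_iff_eq.2 (congrArg g (beq_iff_eq.1 h))⟩)

private noncomputable def _root_.Cfsg.Agent.KOd30a962.k0 : type_of% @Decidable.decide := @(fun x0 x1 => @Decidable.rec.{1} _ @(fun x2 => @Bool) @(fun x2 => @Bool.false) @(fun x2 => @Bool.true) @x1)
private theorem _root_.Cfsg.Agent.KOd30a962.e0 : @Decidable.decide = @_root_.Cfsg.Agent.KOd30a962.k0 := by delta _root_.Cfsg.Agent.KOd30a962.k0; rfl'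
private noncomputable def _root_.Cfsg.Agent.KOd30a962.k1l (n : Nat) (P : ∀ k, k < n → Prop) (H : ∀ k h, Decidable (P k h)) (m : Nat) : m ≤ n → Bool := @Nat.rec (fun m => m ≤ n → Bool) (fun _ => true) (fun k ih h => @Decidable.rec (P k h) (fun _ => Bool) (fun _ => false) (fun _ => ih (Nat.le_of_succ_le h)) (H k h)) m
private theorem _root_.Cfsg.Agent.KOd30a962.k1ls (n : Nat) (P : ∀ k, k < n → Prop) (H : ∀ k h, Decidable (P k h)) (m : Nat) : ∀ h : m ≤ n, _root_.Cfsg.Agent.KOd30a962.k1l n P H m h = true ↔ ∀ k (g : k < m), P k (Nat.lt_of_lt_of_le g h) := by induction m with | zero => exact fun _ => ⟨fun _ _ g => absurd g (Nat.not_lt_zero _), fun _ => rfl⟩ | succ m ih => intro h; show @Decidable.rec (P m h) (fun _ => Bool) (fun _ => false) (fun _ => _root_.Cfsg.Agent.KOd30a962.k1l n P H m (Nat.le_of_succ_le h)) (H m h) = true ↔ _; cases H m h with | isFalse q => exact ⟨fun g => absurd g Bool.false_ne_true, fun g => absurd (g m (Nat.lt_succ_self m))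 q⟩ | isTrue q => exact ⟨fun g k hk => (Nat.lt_succ_iff_lt_or_eq.1 hk).elim ((ih _).1 g k) fun e => by subst e; exact q, fun g => (ih _).2 fun k hk => g k (Nat.lt_succ_of_lt hk)⟩
private noncomputable def _root_.Cfsg.Agent.KOd30a962.k1 (n : Nat) (P : ∀ k, k < n → Prop) (H : ∀ k h, Decidable (P k h)) : Decidable (∀ k h, P k h) := @Bool.rec (fun b => _root_.Cfsg.Agent.KOd30a962.k1l n P H n (Nat.le_refl n) = b → Decidable (∀ k h, P k h)) (fun g => isFalse fun q => Bool.false_ne_true (g.symm.trans ((_root_.Cfsg.Agent.KOd30a962.k1ls n P H n _).2 fun k h => q k h))) (fun g => isTrue fun k h => (_root_.Cfsg.Agent.KOd30a962.k1ls n P H n _).1 g k h) (_root_.Cfsg.Agent.KOd30a962.k1l n P H n (Nat.le_refl n)) rfl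
private theorem _root_.Cfsg.Agent.KOd30a962.e1 : @Nat.decidableBallLT = @_root_.Cfsg.Agent.KOd30a962.k1 := funext fun _ => funext fun _ => funext fun _ => Subsingleton.elim _ _
private noncomputable def _root_.Cfsg.Agent.KOd30a962.k2 : type_of% @Bool.decEq := @(fun x0 x1 => @Bool.rec.{1} @(fun x2 => @Decidable (@Eq.{1} _ @x2 @x1)) (@Bool.rec.{1} @(fun x2 => @Decidable (@Eq.{1} _ @Bool.false @x2)) (@Decidable.isTrue _ (@rfl.{1} _ _)) (@Decidable.isFalse _ @(fun x2 => @Bool.noConfusion.{0} _ _ _ @x2)) @x1) (@Bool.rec.{1} @(fun x2 => @Decidable (@Eq.{1} _ @Bool.true @x2)) (@Decidable.isFalse _ @(fun x2 => @Bool.noConfusion.{0} _ _ _ @x2)) (@Decidable.isTrue _ (@rfl.{1} _ _)) @x1) @x0)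
private theorem _root_.Cfsg.Agent.KOd30a962.e2 : @Bool.decEq = @_root_.Cfsg.Agent.KOd30a962.k2 := by delta _root_.Cfsg.Agent.KOd30a962.k2; rfl'
private noncomputable def _root_.Cfsg.Agent.KOd30a962.k3 : type_of% @instDecidableEqBool := @Cfsg.Agent.KOd30a962.k2
private theorem _root_.Cfsg.Agent.KOd30a962.e3 : @instDecidableEqBool = @_root_.Cfsg.Agent.KOd30a962.k3 := by delta _root_.Cfsg.Agent.KOd30a962.k3; rewrite [← Cfsg.Agent.KOd30a962.e2]; rfl'
private theorem _root_.Cfsg.Agent.KOd30a962.e4.{ku, kv} {α : Type kv} {M : List α → Sort ku} (φ : ∀ l, M l) {z : M List.nil} {s : ∀ a l, M l → M (List.cons a l)} (h0 : φ List.nil = z) (hs : ∀ a l, φ (List.cons a l) = s a l (φ l)) (l : List α) : φ l = @List.rec α M z s l := List.rec h0 (fun a l ih => (hs a l).trans (congrArg (s a l) ih)) l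
private noncomputable def _root_.Cfsg.Agent.KOd30a962.k5.{ku0} : type_of% @List.erase.{ku0} := @(fun x0 x1 x2 x3 => @List.rec.{(ku0+1), ku0} @x0 @(fun x4 => @x0 → @List.{ku0} @x0) @(fun x4 => []) @(fun x4 x5 x6 x7 => @Bool.rec.{(ku0+1)} @(fun x8 => @List.{ku0} @x0) (@x4 :: (@x6 @x7)) @x5 (@BEq.beq.{ku0} _ @x1 @x4 @x7)) @x2 @x3)
private theorem _root_.Cfsg.Agent.KOd30a962.e5.{ku0} : @List.erase.{ku0} = @_root_.Cfsg.Agent.KOd30a962.k5.{ku0} := by delta _root_.Cfsg.Agent.KOd30a962.k5; funext a0 a1 a2 a3; refine (congrFun (_root_.Cfsg.Agent.KOd30a962.e4 (fun a2 a3 => @List.erase.{ku0} a0 a1 a2 a3) ?_ (fun c0 c1 => ?_) a2) a3 :) <;> (rfl')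
private noncomputable def _root_.Cfsg.Agent.KOd30a962.k6.{ku0} : type_of% @List.elem.{ku0} := @(fun x0 x1 x2 x3 => @List.rec.{1, ku0} @x0 @(fun x4 => @Bool) @Bool.false @(fun x4 x5 x6 => @Bool.rec.{1} @(fun x7 => @Bool) @x6 @Bool.true (@BEq.beq.{ku0} _ @x1 @x2 @x4)) @x3)
private theorem _root_.Cfsg.Agent.KOd30a962.e6.{ku0} : @List.elem.{ku0} = @_root_.Cfsg.Agent.KOd30a962.k6.{ku0} := by delta _root_.Cfsg.Agent.KOd30a962.k6; funext a0 a1 a2 a3; refine (_root_.Cfsg.Agent.KOd30a962.e4 (fun a3 => @List.elem.{ku0} a0 a1 a2 a3) ?_ (fun c0 c1 => ?_) a3 :) <;> (rfl')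
private noncomputable def _root_.Cfsg.Agent.KOd30a962.k7.{ku0} : type_of% @List.isPerm.{ku0} := @(fun x0 x1 x2 x3 => @List.rec.{(ku0+1), ku0} @x0 @(fun x4 => (@List.{ku0} @x0) → @Bool) @(fun x4 => @List.rec.{1, ku0} @x0 @(fun x5 => @Bool) @Bool.true @(fun x5 x6 x7 => @Bool.false) @x4) @(fun x4 x5 x6 x7 => @Bool.rec.{1} @(fun x8 => @Bool) @Bool.false (@x6 (@Cfsg.Agent.KOd30a962.k5.{ku0} _ @x1 @x7 @x4)) (@Cfsg.Agent.KOd30a962.k6.{ku0} _ @x1 @x4 @x7)) @x2 @x3)
private theorem _root_.Cfsg.Agent.KOd30a962.e7.{ku0} : @List.isPerm.{ku0} = @_root_.Cfsg.Agent.KOd30a962.k7.{ku0} := by delta _root_.Cfsg.Agent.KOd30a962.k7; rewrite [← Cfsg.Agent.KOd30a962.e6.{ku0}, ← Cfsg.Agent.KOd30a962.e5.{ku0}]; funext a0 a1 a2 a3; refine (congrFun (_root_.Cfsg.Agent.KOd30a962.e4 (fun a2 a3 => @List.isPerm.{ku0} a0 a1 a2 a3) ?_ (fun c0 c1 => ?_) a2) a3 :) <;> (rfl')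
private noncomputable def _root_.Cfsg.Agent.KOd30a962.k8 : type_of% @Nat.decEq := @(fun x0 x1 => @Bool.rec.{1} @(fun x2 => (@Eq.{1} _ (@Nat.beq @x0 @x1) @x2) → @Decidable (@Eq.{1} _ @x0 @x1)) @(fun x2 => @Decidable.isFalse _ (@Nat.ne_of_beq_eq_false _ _ @x2)) @(fun x2 => @Decidable.isTrue _ (@Nat.eq_of_beq_eq_true _ _ @x2)) (@Nat.beq @x0 @x1) (@Eq.refl.{1} _ (@Nat.beq @x0 @x1)))
private theorem _root_.Cfsg.Agent.KOd30a962.e8 : @Nat.decEq = @_root_.Cfsg.Agent.KOd30a962.k8 := by delta _root_.Cfsg.Agent.KOd30a962.k8; rfl'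
private noncomputable def _root_.Cfsg.Agent.KOd30a962.k9 : type_of% @instDecidableEqNat := @Cfsg.Agent.KOd30a962.k8
private theorem _root_.Cfsg.Agent.KOd30a962.e9 : @instDecidableEqNat = @_root_.Cfsg.Agent.KOd30a962.k9 := by delta _root_.Cfsg.Agent.KOd30a962.k9; rewrite [← Cfsg.Agent.KOd30a962.e8]; rfl'
private noncomputable def _root_.Cfsg.Agent.KOd30a962.k10.{ku0, ku1} : type_of% @List.map.{ku0, ku1} := @(fun x0 x1 x2 x3 => @List.rec.{(ku1+1), ku0} @x0 @(fun x4 => @List.{ku1} @x1) [] @(fun x4 x5 x6 => (@x2 @x4) :: @x6) @x3)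
private theorem _root_.Cfsg.Agent.KOd30a962.e10.{ku0, ku1} : @List.map.{ku0, ku1} = @_root_.Cfsg.Agent.KOd30a962.k10.{ku0, ku1} := by delta _root_.Cfsg.Agent.KOd30a962.k10; funext a0 a1 a2 a3; refine (_root_.Cfsg.Agent.KOd30a962.e4 (fun a3 => @List.map.{ku0, ku1} a0 a1 a2 a3) ?_ (fun c0 c1 => ?_) a3 :) <;> (rfl')
private noncomputable def _root_.Cfsg.Agent.KOd30a962.oEq.{ku} (α : Sort ku) (a b : Nat) (f t : α) : α := @Decidable.rec (a = b) (fun _ => α) (fun _ => f) (fun _ => t) (Nat.decEq a b)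
private noncomputable def _root_.Cfsg.Agent.KOd30a962.k11.{ku} (α : Sort ku) (a b : Nat) (f t : α) : α := @Bool.rec (fun _ => α) f t (Nat.beq a b)
private theorem _root_.Cfsg.Agent.KOd30a962.e11.{ku} : @_root_.Cfsg.Agent.KOd30a962.oEq.{ku} = @_root_.Cfsg.Agent.KOd30a962.k11.{ku} := funext fun α => funext fun a => funext fun b => funext fun f => funext fun t => by delta _root_.Cfsg.Agent.KOd30a962.oEq _root_.Cfsg.Agent.KOd30a962.k11; cases h : Nat.beq a b <;> cases Nat.decEq a b <;> rename_i g <;> first | rfl | exact absurd g (Nat.ne_of_beq_eq_false h) | exact absurd (Nat.eq_of_beq_eq_true h) g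
private noncomputable def _root_.Cfsg.Agent.KOd30a962.k12 : (by first | exact type_of% @Cfsg.Agent.H280.L64.dbl | exact Unit : Sort _) := by first | (refine @Subtype.val _ (fun g => @Cfsg.Agent.H280.L64.dbl = @g) (@Subtype.mk _ _ (@(fun x0 => @Cfsg.Agent.KOd30a962.k11.{1} ℕ @x0 (nat_lit 63) (@Nat.mod (@Nat.mul (nat_lit 2) @x0) (nat_lit 63)) (nat_lit 63))) ?_); rewrite [← Cfsg.Agent.KOd30a962.e11.{1}]; rfl') | exact @Cfsg.Agent.H280.L64.dbl | exact ()
private theorem _root_.Cfsg.Agent.KOd30a962.e12 : (by first | exact @Cfsg.Agent.H280.L64.dbl = @_root_.Cfsg.Agent.KOd30a962.k12 | exact True : Prop) := by first | (delta _root_.Cfsg.Agent.KOd30a962.k12; exact @Subtype.property _ (fun g => @Cfsg.Agent.H280.L64.dbl = @g) _) | rfl | trivial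
private noncomputable def _root_.Cfsg.Agent.KOd30a962.k13.{ku0} : type_of% @List.filter.{ku0} := @(fun x0 x1 x2 => @List.rec.{(ku0+1), ku0} @x0 @(fun x3 => @List.{ku0} @x0) [] @(fun x3 x4 x5 => @Bool.rec.{(ku0+1)} @(fun x6 => @List.{ku0} @x0) @x5 (@x3 :: @x5) (@x1 @x3)) @x2)
private theorem _root_.Cfsg.Agent.KOd30a962.e13.{ku0} : @List.filter.{ku0} = @_root_.Cfsg.Agent.KOd30a962.k13.{ku0} := by delta _root_.Cfsg.Agent.KOd30a962.k13; funext a0 a1 a2; refine (_root_.Cfsg.Agent.KOd30a962.e4 (fun a2 => @List.filter.{ku0} a0 a1 a2) ?_ (fun c0 c1 => ?_) a2 :) <;> (rfl')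
private theorem _root_.Cfsg.Agent.KOd30a962.e14.{ku} {M : Nat → Sort ku} (φ : ∀ n, M n) {z : M Nat.zero} {s : ∀ n, M n → M (Nat.succ n)} (h0 : φ Nat.zero = z) (hs : ∀ n, φ (Nat.succ n) = s n (φ n)) (n : Nat) : φ n = @Nat.rec M z s n := Nat.rec h0 (fun n ih => (hs n).trans (congrArg (s n) ih)) n
private noncomputable def _root_.Cfsg.Agent.KOd30a962.k15 : type_of% @List.range.loop := @(fun x0 x1 => @Nat.rec.{1} @(fun x2 => (@List.{0} ℕ) → @List.{0} ℕ) @(fun x2 => @x2) @(fun x2 x3 x4 => @x3 (@x2 :: @x4)) @x0 @x1)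
private theorem _root_.Cfsg.Agent.KOd30a962.e15 : @List.range.loop = @_root_.Cfsg.Agent.KOd30a962.k15 := by delta _root_.Cfsg.Agent.KOd30a962.k15; funext a0 a1; refine (congrFun (_root_.Cfsg.Agent.KOd30a962.e14 (fun a0 a1 => @List.range.loop a0 a1) ?_ (fun c0 => ?_) a0) a1 :) <;> (rfl')
private noncomputable def _root_.Cfsg.Agent.KOd30a962.k16 : (by first | exact type_of% @Cfsg.Agent.H939.L64.subm | exact Unit : Sort _) := by first | (refine @Subtype.val _ (fun g => @Cfsg.Agent.H939.L64.subm = @g) (@Subtype.mk _ _ (@(fun x0 => @Cfsg.Agent.KOd30a962.k13.{0} _ @(fun x1 => @Cfsg.Agent.KOd30a962.k11.{1} @Bool (@Nat.land @x1 @x0) @x1 @Bool.false @Bool.true) (@Cfsg.Agent.KOd30a962.k15 (@Nat.add @x0 (nat_lit 1)) []))) ?_); rewrite [← Cfsg.Agent.KOd30a962.e15, ← Cfsg.Agent.KOd30a962.e11.{1}, ← Cfsg.Agent.KOd30a962.e13.{0}]; rfl') | exact @Cfsg.Agent.H939.L64.subm | exact ()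
private theorem _root_.Cfsg.Agent.KOd30a962.e16 : (by first | exact @Cfsg.Agent.H939.L64.subm = @_root_.Cfsg.Agent.KOd30a962.k16 | exact True : Prop) := by first | (delta _root_.Cfsg.Agent.KOd30a962.k16; exact @Subtype.property _ (fun g => @Cfsg.Agent.H939.L64.subm = @g) _) | rfl | trivial

theorem w65_dbl : ∀ b < 64, ∀ j < 65, w65 (dbl b) (2 * j % 65) = w65 b j := by
  have h : ∀ b < 64, (((subm (dbl b)).map fun m => (2 * m + 64 * dbl b) % 65).isPerm
      ((subm b).map fun m => 2 * ((2 * m + 64 * b) % 65) % 65)) = true := by (first | (refine of_decide_eq_true ?_; rewrite [Cfsg.Agent.KOd30a962.e0, Cfsg.Agent.KOd30a962.e1, Cfsg.Agent.KOd30a962.e3, Cfsg.Agent.KOd30a962.e7.{0}, Cfsg.Agent.KOd30a962.e9, Cfsg.Agent.KOd30a962.e10.{0, 0}, Cfsg.Agent.KOd30a962.e12, Cfsg.Agent.KOd30a962.e16]; decide +kernel) | decide +kernel)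
  intro b hb j hj
  exact w_perm (fun m => (2 * m + 64 * b) % 65) _ (fun x => 2 * x % 65) _ _ j (h b hb) fun m h => by
    have h1 : (2 * m + 64 * b) % 65 < 65 := Nat.mod_lt _ (by decide)
    revert h h1
    generalize (2 * m + 64 * b) % 65 = x
    intro h h1
    omega

theorem w63_dbl : ∀ b < 64, ∀ j < 63, w63 (dbl b) (2 * j % 63) = w63 b j := by
  have h : ∀ b < 64, (((subm (dbl b)).map fun m => (2 * m + 62 * dbl b) % 63).isPerm
      ((subm b).map fun m => 2 * ((2 * m + 62 * b) % 63) % 63)) = true := by (first | (refine of_decide_eq_true ?_; rewrite [Cfsg.Agent.KOd30a962.e0, Cfsg.Agent.KOd30a962.e1, Cfsg.Agent.KOd30a962.e3, Cfsg.Agent.KOd30a962.e7.{0}, Cfsg.Agent.KOd30a962.e9, Cfsg.Agent.KOd30a962.e10.{0, 0}, Cfsg.Agent.KOd30a962.e12, Cfsg.Agent.KOd30a962.e16]; decide +kernel) | decide +kernel)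
  intro b hb j hj
  exact w_perm (fun m => (2 * m + 62 * b) % 63) _ (fun x => 2 * x % 63) _ _ j (h b hb) fun m h => by
    have h1 : (2 * m + 62 * b) % 63 < 63 := Nat.mod_lt _ (by decide)
    revert h h1
    generalize (2 * m + 62 * b) % 63 = x
    intro h h1
    omega

theorem w65_neg : ∀ b < 64, ∀ j < 65, w65 b ((65 - j) % 65) = w65 b j := by
  have h : ∀ b < 64, (((subm b).map fun m => (2 * m + 64 * b) % 65).isPerm
      ((subm b).map fun m => (65 - (2 * m + 64 * b) % 65) % 65)) = true := by (first | (refine of_decide_eq_true ?_; rewrite [Cfsg.Agent.KOd30a962.e0, Cfsg.Agent.KOd30a962.e1, Cfsg.Agent.KOd30a962.e3, Cfsg.Agent.KOd30a962.e7.{0}, Cfsg.Agent.KOd30a962.e9, Cfsg.Agent.KOd30a962.e10.{0, 0}, Cfsg.Agent.KOd30a962.e16]; decide +kernel) | decide +kernel)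
  intro b hb j hj
  exact w_perm (fun m => (2 * m + 64 * b) % 65) _ (fun x => (65 - x) % 65) _ _ j (h b hb) fun m h => by
    have h1 : (2 * m + 64 * b) % 65 < 65 := Nat.mod_lt _ (by decide)
    revert h h1
    generalize (2 * m + 64 * b) % 65 = x
    intro h h1
    omega

theorem w63_neg : ∀ b < 64, ∀ j < 63, w63 b ((63 - j) % 63) = w63 b j := by
  have h : ∀ b < 64, (((subm b).map fun m => (2 * m + 62 * b) % 63).isPerm
      ((subm b).map fun m => (63 - (2 * m + 62 * b) % 63) % 63)) = true := by (first | (refine of_decide_eq_true ?_; rewrite [Cfsg.Agent.KOd30a962.e0, Cfsg.Agent.KOd30a962.e1, Cfsg.Agent.KOd30a962.e3, Cfsg.Agent.KOd30a962.e7.{0}, Cfsg.Agent.KOd30a962.e9, Cfsg.Agent.KOd30a962.e10.{0, 0}, Cfsg.Agent.KOd30a962.e16]; decide +kernel) | decide +kernel)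
  intro b hb j hj
  exact w_perm (fun m => (2 * m + 62 * b) % 63) _ (fun x => (63 - x) % 63) _ _ j (h b hb) fun m h => by
    have h1 : (2 * m + 62 * b) % 63 < 63 := Nat.mod_lt _ (by decide)
    revert h h1
    generalize (2 * m + 62 * b) % 63 = x
    intro h h1
    omega

private noncomputable def _root_.Cfsg.Agent.KOd30a962.k17.{ku0} : type_of% @List.length.{ku0} := @(fun x0 x1 => @List.rec.{1, ku0} @x0 @(fun x2 => ℕ) (nat_lit 0) @(fun x2 x3 x4 => @Nat.add @x4 (nat_lit 1)) @x1)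
private theorem _root_.Cfsg.Agent.KOd30a962.e17.{ku0} : @List.length.{ku0} = @_root_.Cfsg.Agent.KOd30a962.k17.{ku0} := by delta _root_.Cfsg.Agent.KOd30a962.k17; funext a0 a1; refine (_root_.Cfsg.Agent.KOd30a962.e4 (fun a1 => @List.length.{ku0} a0 a1) ?_ (fun c0 c1 => ?_) a1 :) <;> (rfl')
private noncomputable def _root_.Cfsg.Agent.KOd30a962.k18 : (by first | exact type_of% @Cfsg.Agent.H939.L64.w65 | exact Unit : Sort _) := by first | (refine @Subtype.val _ (fun g => @Cfsg.Agent.H939.L64.w65 = @g) (@Subtype.mk _ _ (@(fun x0 x1 => @Cfsg.Agent.KOd30a962.k17.{0} _ (@Cfsg.Agent.KOd30a962.k13.{0} _ @(fun x2 => @Cfsg.Agent.KOd30a962.k11.{1} @Bool (@Nat.mod (@Nat.add (@Nat.mul (nat_lit 2) @x2) (@Nat.mul (nat_lit 64) @x0)) (nat_lit 65)) @x1 @Bool.false @Bool.true) (@Cfsg.Agent.KOd30a962.k16 @x0)))) ?_); rewrite [← Cfsg.Agent.KOd30a962.e16, ← Cfsg.Agent.KOd30a962.e11.{1}, ← Cfsg.Agent.KOd30a962.e13.{0}, ← Cfsg.Agent.KOd30a962.e17.{0}]; (try delta Cfsg.Agent.H939.L64.w65);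 (try generalize @Cfsg.Agent.H939.L64.subm = g0); rfl') | exact @Cfsg.Agent.H939.L64.w65 | exact ()
private theorem _root_.Cfsg.Agent.KOd30a962.e18 : (by first | exact @Cfsg.Agent.H939.L64.w65 = @_root_.Cfsg.Agent.KOd30a962.k18 | exact True : Prop) := by first | (delta _root_.Cfsg.Agent.KOd30a962.k18; exact @Subtype.property _ (fun g => @Cfsg.Agent.H939.L64.w65 = @g) _) | rfl | trivial
private noncomputable def _root_.Cfsg.Agent.KOd30a962.k19.{ku0} : type_of% @ite.{ku0} := @(fun x0 x1 x2 x3 x4 => @Decidable.rec.{ku0} _ @(fun x5 => @x0) @(fun x5 => @x4) @(fun x5 => @x3) @x2)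
private theorem _root_.Cfsg.Agent.KOd30a962.e19.{ku0} : @ite.{ku0} = @_root_.Cfsg.Agent.KOd30a962.k19.{ku0} := by delta _root_.Cfsg.Agent.KOd30a962.k19; rfl'

theorem w65_zero : ∀ b < 64, w65 b 0 = if b = 0 then 1 else 0 := by (first | (refine of_decide_eq_true ?_; rewrite [Cfsg.Agent.KOd30a962.e0, Cfsg.Agent.KOd30a962.e1, Cfsg.Agent.KOd30a962.e9, Cfsg.Agent.KOd30a962.e18, Cfsg.Agent.KOd30a962.e19.{1}]; decide +kernel) | decide +kernel)

theorem w65_pow : ∀ i < 6, w65 (2 ^ i) (2 ^ i) = 1 := by decide +kernel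

theorem dbl_pow : ∀ i < 5, dbl (2 ^ i) = 2 ^ (i + 1) := by decide +kernel

theorem dbl_lt : ∀ b < 64, dbl b < 64 := by decide +kernel

private noncomputable def _root_.Cfsg.Agent.KOd30a962.k20 : type_of% @forall_prop_decidable := @(fun x0 x1 x2 x3 => @Decidable.rec.{1} _ @(fun x4 => @Decidable ((x5 : @x0) → @x1 @x5)) @(fun x4 => @Decidable.isTrue _ (@forall_prop_decidable._proof_2 _ @x1 @x4)) @(fun x4 => @Decidable.rec.{1} _ @(fun x5 => @Decidable ((x6 : @x0) → @x1 @x6)) @(fun x5 => @Decidable.isFalse _ (@decidable_of_decidable_of_iff._proof_1 _ _ (@forall_prop_decidable._proof_1 _ @x1 @x4) @x5)) @(fun x5 => @Decidable.isTrue _ (@Iff.mp _ _ (@forall_prop_decidable._proof_1 _ @x1 @x4) @x5)) (@x3 @x4)) @x2)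
private theorem _root_.Cfsg.Agent.KOd30a962.e20 : @forall_prop_decidable = @_root_.Cfsg.Agent.KOd30a962.k20 := by delta _root_.Cfsg.Agent.KOd30a962.k20; rfl'

theorem dbl_inj : ∀ b < 64, ∀ c < 64, dbl b = dbl c → b = c := by (first | (refine of_decide_eq_true ?_; rewrite [Cfsg.Agent.KOd30a962.e0, Cfsg.Agent.KOd30a962.e1, Cfsg.Agent.KOd30a962.e20, Cfsg.Agent.KOd30a962.e9, Cfsg.Agent.KOd30a962.e12]; decide +kernel) | decide +kernel)

theorem dbl_surj : ∀ c < 64, ∃ b, b < 64 ∧ dbl b = c := by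
  intro c hc
  have h : Function.Surjective (fun b : Fin 64 => (⟨dbl b.1, dbl_lt b.1 b.2⟩ : Fin 64)) := by
    apply Finite.surjective_of_injective
    intro b c h
    exact Fin.ext (dbl_inj b.1 b.2 c.1 c.2 (congrArg Fin.val h))
  obtain ⟨b, hb⟩ := h ⟨c, hc⟩
  exact ⟨b.1, b.2, congrArg Fin.val hb⟩

/-- reindexing by `dbl` -/
theorem sum_dbl (f : ℕ → ℕ) : ∑ b ∈ Finset.range 64, f (dbl b) = ∑ b ∈ Finset.range 64, f b := by
  refine Finset.sum_bij (fun b _ => dbl b) ?_ ?_ ?_ ?_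
  · intro b hb
    exact Finset.mem_range.2 (dbl_lt b (Finset.mem_range.1 hb))
  · intro b hb c hc h
    exact dbl_inj b (Finset.mem_range.1 hb) c (Finset.mem_range.1 hc) h
  · intro c hc
    obtain ⟨b, h1, h2⟩ := dbl_surj c (Finset.mem_range.1 hc)
    exact ⟨b, Finset.mem_range.2 h1, h2⟩
  · intro b _
    rfl

end Cfsg.Agent.H280.L64
end

-- part: H280/L64/Chain
section
/-!
# S5915, R6: submodules, quotients and eigenvalue multiplicities (helper280)
-/

set_option autoImplicit false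
set_option linter.unusedSectionVars false

namespace Cfsg.Agent.H280.L64

open Matrix Cfsg.Agent.H943.SL2Rel Cfsg.Agent.H943.RepAdd Cfsg.Agent.H939.L64

section Gen

variable {k : Type} [Field k] {G : Type} [Group G] {V : Type} [AddCommGroup V] [Module k V]
  (ρ : Representation k G V)

theorem rho_mul (g h : G) (x : V) : ρ g (ρ h x) = ρ (g * h) x := by
  rw [map_mul]; rfl

theorem rho_one (x : V) : ρ 1 x = x := by
  rw [map_one]; rfl

/-- isomorphic representations have the same multiplicities -/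
theorem finrank_eig_equiv {V₁ V₂ : Type} [AddCommGroup V₁] [Module k V₁] [AddCommGroup V₂] [Module k V₂]
    {ρ₁ : Representation k G V₁} {ρ₂ : Representation k G V₂} (φ : V₁ ≃ₗ[k] V₂)
    (h : ∀ g x, φ (ρ₁ g x) = ρ₂ g (φ x)) (g : G) (μ : k) :
    Module.finrank k (eig ρ₁ g μ) = Module.finrank k (eig ρ₂ g μ) := by
  have h1 : (eig ρ₁ g μ).map (φ : V₁ →ₗ[k] V₂) = eig ρ₂ g μ := by
    ext x
    constructor
    · rintro ⟨v, hv, rfl⟩
      rw [SetLike.mem_coe, mem_eig] at hv
      rw [mem_eig]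
      show ρ₂ g (φ v) = μ • φ v
      rw [← h, hv, map_smul]
    · intro hx
      rw [mem_eig] at hx
      refine ⟨φ.symm x, ?_, φ.apply_symm_apply x⟩
      rw [SetLike.mem_coe, mem_eig]
      apply φ.injective
      rw [h, φ.apply_symm_apply, hx, map_smul, φ.apply_symm_apply]
  rw [← h1]
  exact (LinearEquiv.finrank_map_eq φ _).symm

variable {W W' : Submodule k V}

variable [FiniteDimensional k V]

theorem finrank_ker_dual (A : Module.End k V) :
    Module.finrank k (LinearMap.ker A.dualMap) = Module.finrank k (LinearMap.ker A) := by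
  have h1 := LinearMap.finrank_range_add_finrank_ker A.dualMap
  have h2 := LinearMap.finrank_range_add_finrank_ker A
  rw [LinearMap.finrank_range_dualMap_eq_finrank_range, Subspace.dual_finrank_eq] at h1
  omega

theorem eig_dual (g : G) {μ : k} (hμ : μ ≠ 0) :
    Module.finrank k (eig ρ.dual g μ) = Module.finrank k (eig ρ g μ⁻¹) := by
  have h1 : eig ρ.dual g μ = LinearMap.ker (ρ g⁻¹ - μ • (1 : Module.End k V)).dualMap := by
    ext f
    rw [mem_eig, LinearMap.mem_ker]
    constructor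
    · intro h
      refine LinearMap.ext fun v => ?_
      have h2 := LinearMap.congr_fun h v
      rw [Representation.dual_apply] at h2
      show f ((ρ g⁻¹ - μ • (1 : Module.End k V)) v) = 0
      rw [LinearMap.sub_apply, map_sub, LinearMap.smul_apply, map_smul, Module.End.one_apply]
      have h3 : f (ρ g⁻¹ v) = μ • f v := h2
      rw [h3, sub_self]
    · intro h
      refine LinearMap.ext fun v => ?_
      have h2 : f ((ρ g⁻¹ - μ • (1 : Module.End k V)) v) = 0 := LinearMap.congr_fun h v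
      rw [LinearMap.sub_apply, map_sub, LinearMap.smul_apply, map_smul, Module.End.one_apply, sub_eq_zero] at h2
      exact h2
  have h2 : eig ρ g⁻¹ μ = eig ρ g μ⁻¹ := by
    ext v
    rw [mem_eig, mem_eig]
    constructor
    · intro h
      have h3 : ρ g (ρ g⁻¹ v) = v := by rw [rho_mul, mul_inv_cancel, rho_one]
      rw [h, map_smul] at h3
      rw [← h3, smul_smul, inv_mul_cancel₀ hμ, one_smul, h3]
    · intro h
      have h3 : ρ g⁻¹ (ρ g v) = v := by rw [rho_mul, inv_mul_cancel, rho_one]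
      rw [h, map_smul] at h3
      rw [← h3, smul_smul, mul_inv_cancel₀ hμ, one_smul, h3]
  rw [h1, finrank_ker_dual, ← h2]
  rfl

end Gen

end Cfsg.Agent.H280.L64
end

-- part: H280/L64/Ref
section
/-!
# S5915, R6: the refined pressure theorem (helper280; the short proof is helper950's)
-/

set_option autoImplicit false
set_option linter.unusedSectionVars false

namespace Cfsg.Agent.H280.L64

open Matrix Cfsg.Agent.H943.SL2Rel Cfsg.Agent.H943.RepAdd Cfsg.Agent.H939.L64 Cfsg.Agent.H875.L64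
open Cfsg.Agent.H943.SL2Mod (Irr Vb Db mon fRep MM mem_MM)

variable {k : Type} [Field k] [IsAlgClosed k] [CharP k 2] {F : Type} [Field F] [Fintype F] [DecidableEq F] {ι : F →+* k}
  {lam : Fˣ} {y : _root_.Matrix.SpecialLinearGroup (Fin 2) F} {ζ : k}

theorem nsmul65 (k : Type) [Field k] [CharP k 2] {V : Type} [AddCommGroup V] [Module k V] (x : V) : (65 : ℕ) • x = x := by
  have h : ((65 : ℕ) : k) = 1 := by
    have h2 : (2 : k) = 0 := CharTwo.two_eq_zero
    have e : ((65 : ℕ) : k) = 2 * 32 + 1 := by push_cast; ring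
    rw [e, h2, zero_mul, zero_add]
  rw [← Nat.cast_smul_eq_nsmul k, h, one_smul]

/-- the inputs R1, R2, R3a, PR -/
structure Inp (ι : F →+* k) (lam : Fˣ) (y : _root_.Matrix.SpecialLinearGroup (Fin 2) F) (ζ : k) : Prop where
  ex : ∀ (V : Type) [AddCommGroup V] [Module k V] [FiniteDimensional k V]
    (ρ : Representation k (_root_.Matrix.SpecialLinearGroup (Fin 2) F) V), ∃ m : ℕ → ℕ, SpecM ι ρ lam y ζ m
  pr : ∀ (V : Type) [AddCommGroup V] [Module k V] [FiniteDimensional k V]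
    (ρ : Representation k (_root_.Matrix.SpecialLinearGroup (Fin 2) F) V) (m : ℕ → ℕ), SpecM ι ρ lam y ζ m →
    m 0 ≤ Module.finrank k (fixS ρ) + ∑ i ∈ Finset.range 6, m (2 ^ i)
  irr : ∀ (V : Type) [AddCommGroup V] [Module k V] [FiniteDimensional k V]
    (ρ : Representation k (_root_.Matrix.SpecialLinearGroup (Fin 2) F) V), Irr ρ → ∃ b < 64, IsV ι b ρ ⊤
  wt : ∀ (V : Type) [AddCommGroup V] [Module k V] [FiniteDimensional k V]
    (ρ : Representation k (_root_.Matrix.SpecialLinearGroup (Fin 2) F) V) (W : Submodule k V) (hW : ∀ g, ∀ x ∈ W, ρ g x ∈ W) (b : ℕ),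
    b < 64 → IsV ι b ρ W → e65 (subRep ρ W hW) y ζ 0 = w65 b 0

section

variable {V : Type} [AddCommGroup V] [Module k V]

omit [IsAlgClosed k] [CharP k 2] [DecidableEq F] in
theorem spec_zero {ρ : Representation k (_root_.Matrix.SpecialLinearGroup (Fin 2) F) V} {m : ℕ → ℕ} (h : SpecM ι ρ lam y ζ m) :
    e65 ρ y ζ 0 = m 0 := by
  rw [h.1 0 (by norm_num)]
  rw [Finset.sum_congr rfl fun b hb => by rw [w65_zero b (Finset.mem_range.1 hb)]]
  simp

omit [IsAlgClosed k] [CharP k 2] [DecidableEq F] in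
theorem spec_pow {ρ : Representation k (_root_.Matrix.SpecialLinearGroup (Fin 2) F) V} {m : ℕ → ℕ} (h : SpecM ι ρ lam y ζ m)
    {i : ℕ} (hi : i < 6) (h0 : e65 ρ y ζ (2 ^ i) = 0) : m (2 ^ i) = 0 := by
  have hi' : 2 ^ i < 64 := by
    calc 2 ^ i < 2 ^ 6 := Nat.pow_lt_pow_right (by norm_num) hi
      _ = 64 := by norm_num
  rw [h.1 (2 ^ i) (by omega)] at h0
  have h1 := (Finset.sum_eq_zero_iff.1 h0) (2 ^ i) (Finset.mem_range.2 hi')
  rw [w65_pow i hi, mul_one] at h1
  exact h1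

variable (ρ : Representation k (_root_.Matrix.SpecialLinearGroup (Fin 2) F) V)

/-- the sum over the powers of `y` -/
def Ny (y : _root_.Matrix.SpecialLinearGroup (Fin 2) F) (x : V) : V := ∑ i ∈ Finset.range 65, ρ (y ^ i) x

omit [IsAlgClosed k] [CharP k 2] [DecidableEq F] in
theorem y_Ny (hy : y ^ 65 = 1) (x : V) : ρ y (Ny ρ y x) = Ny ρ y x := by
  unfold Ny
  rw [map_sum]
  have h1 : ∀ i, ρ y (ρ (y ^ i) x) = ρ (y ^ (i + 1)) x := fun i => by rw [rho_mul, pow_succ']
  rw [Finset.sum_congr rfl fun i _ => h1 i]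
  have h2 := Finset.sum_range_succ (fun i => ρ (y ^ i) x) 65
  rw [Finset.sum_range_succ', hy, pow_zero] at h2
  exact add_right_cancel h2

omit [IsAlgClosed k] [CharP k 2] [DecidableEq F] in
theorem pow_fix {x : V} (hx : ρ y x = x) (i : ℕ) : ρ (y ^ i) x = x := by
  induction i with
  | zero => rw [pow_zero, rho_one]
  | succ i ih => rw [pow_succ, ← rho_mul, hx, ih]

omit [IsAlgClosed k] [CharP k 2] [DecidableEq F] in
theorem Ny_mem {W : Submodule k V} (hW : ∀ g, ∀ x ∈ W, ρ g x ∈ W) {x : V} (hx : x ∈ W) : Ny ρ y x ∈ W :=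
  Submodule.sum_mem _ fun _ _ => hW _ x hx

omit [IsAlgClosed k] [DecidableEq F] in
theorem Ny_sub {W : Submodule k V} {x : V} (hx : ∀ g, ρ g x - x ∈ W) : Ny ρ y x - x ∈ W := by
  have h1 : Ny ρ y x - x = ∑ i ∈ Finset.range 65, (ρ (y ^ i) x - x) := by
    rw [Finset.sum_sub_distrib, Finset.sum_const, Finset.card_range, nsmul65 k]
    rfl
  rw [h1]
  exact Submodule.sum_mem _ fun i _ => hx _

end

section Sigma

variable {V : Type} [AddCommGroup V] [Module k V] [FiniteDimensional k V]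
  (ρ : Representation k (_root_.Matrix.SpecialLinearGroup (Fin 2) F) V)

omit [CharP k 2] [DecidableEq F] in
/-- the Frobenius map moves the eigenspaces -/
theorem eig_sigma (σ : V →+ V) (hinj : Function.Injective σ) (hσ : ∀ (c : k) v, σ (c • v) = c ^ 2 • σ v)
    (hσρ : ∀ g v, σ (ρ g v) = ρ g (σ v)) (g : _root_.Matrix.SpecialLinearGroup (Fin 2) F) (μ : k) :
    Module.finrank k (eig ρ g μ) ≤ Module.finrank k (eig ρ g (μ ^ 2)) := by
  let j : eig ρ g μ →+ eig ρ g (μ ^ 2) :=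
    { toFun := fun x => ⟨σ x, by
        have hx := (mem_eig ρ).1 x.2
        rw [mem_eig, ← hσρ, hx, hσ]⟩
      map_zero' := Subtype.ext (map_zero σ)
      map_add' := fun a b => Subtype.ext (map_add σ _ _) }
  have h1 : Module.rank k (eig ρ g μ) ≤ Module.rank k (eig ρ g (μ ^ 2)) := by
    refine rank_le_of_surjective_injective (fun c : k => c ^ 2) j ?_ ?_ ?_
    · intro c
      obtain ⟨d, hd⟩ := IsAlgClosed.exists_pow_nat_eq c (n := 2) (by norm_num)
      exact ⟨d, hd⟩
    · intro a b h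
      exact Subtype.ext (hinj (congrArg Subtype.val h))
    · intro c x
      exact Subtype.ext (hσ c x)
  have h2 := Module.rank_lt_aleph0 k (eig ρ g (μ ^ 2))
  exact Cardinal.toNat_le_toNat h1 h2

omit [CharP k 2] [DecidableEq F] in
theorem eig_chain (σ : V →+ V) (hinj : Function.Injective σ) (hσ : ∀ (c : k) v, σ (c • v) = c ^ 2 • σ v)
    (hσρ : ∀ g v, σ (ρ g v) = ρ g (σ v)) (g : _root_.Matrix.SpecialLinearGroup (Fin 2) F) (μ : k) (n : ℕ) (hn : μ ^ 2 ^ (n + 1) = μ) :
    Module.finrank k (eig ρ g (μ ^ 2)) = Module.finrank k (eig ρ g μ) := by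
  apply le_antisymm _ (eig_sigma ρ σ hinj hσ hσρ g μ)
  have h1 : ∀ i, Module.finrank k (eig ρ g (μ ^ 2)) ≤ Module.finrank k (eig ρ g (μ ^ 2 ^ (i + 1))) := by
    intro i
    induction i with
    | zero => rw [zero_add, pow_one]
    | succ i ih =>
      refine ih.trans ?_
      have h2 := eig_sigma ρ σ hinj hσ hσρ g (μ ^ 2 ^ (i + 1))
      rwa [← pow_mul, ← pow_succ] at h2
  have h2 := h1 n
  rwa [hn] at h2

/-- invariance of the multiplicities under the Frobenius map -/
theorem spec_sigma (D : Dat ι lam y ζ) (σ : V →+ V) (hinj : Function.Injective σ)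
    (hσ : ∀ (c : k) v, σ (c • v) = c ^ 2 • σ v) (hσρ : ∀ g v, σ (ρ g v) = ρ g (σ v)) {m : ℕ → ℕ}
    (hm : SpecM ι ρ lam y ζ m) : ∀ b < 64, m (dbl b) = m b := by
  have hζ : ζ ^ 65 = 1 := D.prim.pow_eq_one
  have hl : ι lam ^ 63 = 1 := by
    have h1 : lam ^ 63 = 1 := by
      have h2 : Fintype.card Fˣ = 63 := by rw [Fintype.card_units, D.card]
      rw [← h2, pow_card_eq_one]
    rw [← map_pow, ← Units.val_pow_eq_pow_val, h1, Units.val_one, map_one]
  have hz65 : ∀ j, ζ ^ (j % 65) = ζ ^ j := fun j => (pow_eq_pow_mod j hζ).symm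
  have hz63 : ∀ j, ι lam ^ (j % 63) = ι lam ^ j := fun j => (pow_eq_pow_mod j hl).symm
  have h65 : ∀ j, e65 ρ y ζ (2 * j % 65) = e65 ρ y ζ j := by
    intro j
    unfold e65
    rw [hz65, mul_comm 2 j, pow_mul]
    refine eig_chain ρ σ hinj hσ hσρ y (ζ ^ j) 11 ?_
    have e : ζ ^ 2 ^ (11 + 1) = ζ := by
      have : (2 : ℕ) ^ (11 + 1) = 65 * 63 + 1 := by norm_num
      rw [this, pow_add, pow_mul, hζ, one_pow, one_mul, pow_one]
    rw [← pow_mul, mul_comm j, pow_mul, e]
  have h63 : ∀ j, e63 ι ρ lam (2 * j % 63) = e63 ι ρ lam j := by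
    intro j
    unfold e63
    rw [hz63, mul_comm 2 j, pow_mul]
    refine eig_chain ρ σ hinj hσ hσρ (h lam) (ι lam ^ j) 5 ?_
    have e : ι lam ^ 2 ^ (5 + 1) = ι lam := by
      have : (2 : ℕ) ^ (5 + 1) = 63 * 1 + 1 := by norm_num
      rw [this, pow_add, pow_mul, hl, one_pow, one_mul, pow_one]
    rw [← pow_mul, mul_comm j, pow_mul, e]
  have hm' : SpecM ι ρ lam y ζ (fun b => m (dbl b)) := by
    constructor
    · intro j hj
      rw [← h65 j, hm.1 _ (Nat.mod_lt _ (by norm_num)), ← sum_dbl (fun b => m b * w65 b (2 * j % 65))]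
      exact Finset.sum_congr rfl fun b hb => by rw [w65_dbl b (Finset.mem_range.1 hb) j hj]
    · intro j hj
      rw [← h63 j, hm.2 _ (Nat.mod_lt _ (by norm_num)), ← sum_dbl (fun b => m b * w63 b (2 * j % 63))]
      exact Finset.sum_congr rfl fun b hb => by rw [w63_dbl b (Finset.mem_range.1 hb) j hj]
  exact specM_unique hm' hm

theorem spec_sigma_pow (D : Dat ι lam y ζ) (σ : V →+ V) (hinj : Function.Injective σ)
    (hσ : ∀ (c : k) v, σ (c • v) = c ^ 2 • σ v) (hσρ : ∀ g v, σ (ρ g v) = ρ g (σ v)) {m : ℕ → ℕ}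
    (hm : SpecM ι ρ lam y ζ m) : ∀ i < 6, m (2 ^ i) = m 1 := by
  intro i
  induction i with
  | zero => intro _; rw [pow_zero]
  | succ i ih =>
    intro hi
    rw [← dbl_pow i (by omega), spec_sigma ρ D σ hinj hσ hσρ hm, ih (by omega)]
    calc 2 ^ i < 2 ^ 6 := Nat.pow_lt_pow_right (by norm_num) (by omega)
      _ = 64 := by norm_num

end Sigma

end Cfsg.Agent.H280.L64
end

-- part: H280/L64/RefB
section
/-!
# S5915, R6: duality and the end of the proof (helper280; the short proof is helper950's)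
-/

set_option autoImplicit false
set_option linter.unusedSectionVars false

namespace Cfsg.Agent.H280.L64

open Matrix Cfsg.Agent.H943.SL2Rel Cfsg.Agent.H943.RepAdd Cfsg.Agent.H939.L64 Cfsg.Agent.H875.L64
open Cfsg.Agent.H943.SL2Mod (Irr Vb Db mon fRep MM mem_MM)

variable {k : Type} [Field k] [IsAlgClosed k] [CharP k 2] {F : Type} [Field F] [Fintype F] [DecidableEq F] {ι : F →+* k}
  {lam : Fˣ} {y : _root_.Matrix.SpecialLinearGroup (Fin 2) F} {ζ : k}

section Form

variable {V : Type} [AddCommGroup V] [Module k V]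
  (ρ : Representation k (_root_.Matrix.SpecialLinearGroup (Fin 2) F) V) (B : V →ₗ[k] V →ₗ[k] k)

/-- the submodule generated by the vectors fixed by `y` -/
def V1 (y : _root_.Matrix.SpecialLinearGroup (Fin 2) F) : Submodule k V := Submodule.span k {x | ∃ g v, ρ y v = v ∧ x = ρ g v}

theorem V1_inv : ∀ g, ∀ x ∈ V1 ρ y, ρ g x ∈ V1 ρ y := by
  intro g x hx
  induction hx using Submodule.span_induction with
  | mem x hx =>
    obtain ⟨h, v, hv, rfl⟩ := hx
    exact Submodule.subset_span ⟨g * h, v, hv, rho_mul ρ g h v⟩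
  | zero => rw [map_zero]; exact Submodule.zero_mem _
  | add a b _ _ ha hb => rw [map_add]; exact Submodule.add_mem _ ha hb
  | smul c a _ ha => rw [map_smul]; exact Submodule.smul_mem _ _ ha

theorem mem_V1 {v : V} (hv : ρ y v = v) : v ∈ V1 ρ y :=
  Submodule.subset_span ⟨1, v, hv, (rho_one ρ v).symm⟩

theorem V1_sigma (σ : V →+ V) (hσ : ∀ (c : k) v, σ (c • v) = c ^ 2 • σ v)
    (hσρ : ∀ g v, σ (ρ g v) = ρ g (σ v)) : ∀ x ∈ V1 ρ y, σ x ∈ V1 ρ y := by
  intro x hx
  induction hx using Submodule.span_induction with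
  | mem x hx =>
    obtain ⟨h, v, hv, rfl⟩ := hx
    exact Submodule.subset_span ⟨h, σ v, by rw [← hσρ, hv], hσρ h v⟩
  | zero => rw [map_zero]; exact Submodule.zero_mem _
  | add a b _ _ ha hb => rw [map_add]; exact Submodule.add_mem _ ha hb
  | smul c a _ ha => rw [hσ]; exact Submodule.smul_mem _ _ ha

/-- the orthogonal -/
def Or (W : Submodule k V) : Submodule k V where
  carrier := {x | ∀ v ∈ W, B x v = 0}
  add_mem' := fun ha hb v hv => by rw [map_add, LinearMap.add_apply, ha v hv, hb v hv, add_zero]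
  zero_mem' := fun v _ => by rw [map_zero, LinearMap.zero_apply]
  smul_mem' := fun c x hx v hv => by rw [map_smul, LinearMap.smul_apply, hx v hv, smul_zero]

variable {B}

theorem B_inv (hB : ∀ g v w, B (ρ g v) (ρ g w) = B v w) (g : _root_.Matrix.SpecialLinearGroup (Fin 2) F) (v w : V) :
    B (ρ g v) w = B v (ρ g⁻¹ w) := by
  have h1 := hB g v (ρ g⁻¹ w)
  rwa [rho_mul, mul_inv_cancel, rho_one] at h1

theorem Or_inv (hB : ∀ g v w, B (ρ g v) (ρ g w) = B v w) {W : Submodule k V} (hW : ∀ g, ∀ x ∈ W, ρ g x ∈ W) :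
    ∀ g, ∀ x ∈ Or B W, ρ g x ∈ Or B W := by
  intro g x hx v hv
  rw [B_inv ρ hB]
  exact hx _ (hW _ v hv)

omit [IsAlgClosed k] in
theorem N_form (hB : ∀ g v w, B (ρ g v) (ρ g w) = B v w) (x : V) {v : V} (hv : ρ y v = v) :
    B (Ny ρ y x) v = B x v := by
  unfold Ny
  rw [map_sum, LinearMap.sum_apply]
  have h1 : ∀ i ∈ Finset.range 65, B (ρ (y ^ i) x) v = B x v := by
    intro i _
    have h2 := hB (y ^ i) x v
    rwa [pow_fix ρ hv] at h2
  rw [Finset.sum_congr rfl h1, Finset.sum_const, Finset.card_range, nsmul65 k]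

variable [FiniteDimensional k V]

theorem B_surj (hnd : ∀ v, (∀ w, B v w = 0) → v = 0) (f : Module.Dual k V) : ∃ a, B a = f := by
  have h1 : Function.Injective B := by
    rw [← LinearMap.ker_eq_bot, LinearMap.ker_eq_bot']
    intro v hv
    exact hnd v fun w => by rw [hv, LinearMap.zero_apply]
  exact (LinearMap.injective_iff_surjective_of_finrank_eq_finrank (Subspace.dual_finrank_eq (K := k) (V := V)).symm).1 h1 f

/-- the orthogonal of `W` is the dual of `V / W` -/
theorem eig_or (hB : ∀ g v w, B (ρ g v) (ρ g w) = B v w) (hnd : ∀ v, (∀ w, B v w = 0) → v = 0)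
    {W : Submodule k V} (hW : ∀ g, ∀ x ∈ W, ρ g x ∈ W) (g : _root_.Matrix.SpecialLinearGroup (Fin 2) F) {μ : k} (hμ : μ ≠ 0) :
    Module.finrank k (eig (subRep ρ (Or B W) (Or_inv ρ hB hW)) g μ) =
      Module.finrank k (eig (quotRep ρ W hW) g μ⁻¹) := by
  let θ : Or B W →ₗ[k] Module.Dual k (V ⧸ W) :=
    { toFun := fun a => W.liftQ (B (a : V)) fun v hv => a.2 v hv
      map_add' := fun a b => by
        refine LinearMap.ext fun x => ?_
        obtain ⟨x, rfl⟩ := W.mkQ_surjective x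
        show B ((a : V) + b) x = B (a : V) x + B (b : V) x
        rw [map_add, LinearMap.add_apply]
      map_smul' := fun c a => by
        refine LinearMap.ext fun x => ?_
        obtain ⟨x, rfl⟩ := W.mkQ_surjective x
        show B (c • (a : V)) x = c • B (a : V) x
        rw [map_smul, LinearMap.smul_apply] }
  have hθ : ∀ (a : Or B W) (x : V), θ a (W.mkQ x) = B (a : V) x := fun a x => rfl
  have hbij : Function.Bijective θ := by
    constructor
    · intro a b hab
      apply Subtype.ext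
      rw [← sub_eq_zero]
      refine hnd _ fun w => ?_
      have h1 := LinearMap.congr_fun hab (W.mkQ w)
      rw [hθ, hθ] at h1
      rw [map_sub, LinearMap.sub_apply, h1, sub_self]
    · intro f
      obtain ⟨a, ha⟩ := B_surj hnd (f.comp W.mkQ)
      refine ⟨⟨a, fun v hv => ?_⟩, LinearMap.ext fun x => ?_⟩
      · rw [ha, LinearMap.comp_apply]
        have : W.mkQ v = 0 := by rwa [Submodule.mkQ_apply, Submodule.Quotient.mk_eq_zero]
        rw [this, map_zero]
      · obtain ⟨x, rfl⟩ := W.mkQ_surjective x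
        rw [hθ]
        show B a x = _
        rw [ha]
        rfl
  rw [finrank_eig_equiv (ρ₂ := (quotRep ρ W hW).dual) (LinearEquiv.ofBijective θ hbij) ?_ g μ, eig_dual _ _ hμ]
  intro g a
  refine LinearMap.ext fun x => ?_
  obtain ⟨x, rfl⟩ := W.mkQ_surjective x
  show θ (subRep ρ (Or B W) (Or_inv ρ hB hW) g a) (W.mkQ x) = θ a (quotRep ρ W hW g⁻¹ (W.mkQ x))
  rw [quotRep_mk, hθ, hθ, coe_subRep, B_inv ρ hB]

theorem spec_or (D : Dat ι lam y ζ) (hB : ∀ g v w, B (ρ g v) (ρ g w) = B v w)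
    (hnd : ∀ v, (∀ w, B v w = 0) → v = 0) {W : Submodule k V} (hW : ∀ g, ∀ x ∈ W, ρ g x ∈ W) {m : ℕ → ℕ}
    (hm : SpecM ι (quotRep ρ W hW) lam y ζ m) : SpecM ι (subRep ρ (Or B W) (Or_inv ρ hB hW)) lam y ζ m := by
  have hζ : ζ ^ 65 = 1 := D.prim.pow_eq_one
  have hl : ι lam ^ 63 = 1 := by
    have h1 : lam ^ 63 = 1 := by
      have h2 : Fintype.card Fˣ = 63 := by rw [Fintype.card_units, D.card]
      rw [← h2, pow_card_eq_one]
    rw [← map_pow, ← Units.val_pow_eq_pow_val, h1, Units.val_one, map_one]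
  have hζ0 : ζ ≠ 0 := D.prim.ne_zero (by norm_num)
  have hl0 : ι lam ≠ 0 := by
    intro h0
    rw [h0, zero_pow (by norm_num)] at hl
    exact zero_ne_one hl
  have inv65 : ∀ j < 65, (ζ ^ j)⁻¹ = ζ ^ ((65 - j) % 65) := by
    intro j hj
    rw [← pow_eq_pow_mod _ hζ]
    apply inv_eq_of_mul_eq_one_right
    rw [← pow_add, show j + (65 - j) = 65 by omega, hζ]
  have inv63 : ∀ j < 63, (ι lam ^ j)⁻¹ = ι lam ^ ((63 - j) % 63) := by
    intro j hj
    rw [← pow_eq_pow_mod _ hl]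
    apply inv_eq_of_mul_eq_one_right
    rw [← pow_add, show j + (63 - j) = 63 by omega, hl]
  constructor
  · intro j hj
    unfold e65
    rw [eig_or ρ hB hnd hW y (pow_ne_zero j hζ0), inv65 j hj]
    have h1 := hm.1 ((65 - j) % 65) (Nat.mod_lt _ (by norm_num))
    unfold e65 at h1
    rw [h1]
    exact Finset.sum_congr rfl fun b hb => by rw [w65_neg b (Finset.mem_range.1 hb) j hj]
  · intro j hj
    unfold e63
    rw [eig_or ρ hB hnd hW (h lam) (pow_ne_zero j hl0), inv63 j hj]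
    have h1 := hm.2 ((63 - j) % 63) (Nat.mod_lt _ (by norm_num))
    unfold e63 at h1
    rw [h1]
    exact Finset.sum_congr rfl fun b hb => by rw [w63_neg b (Finset.mem_range.1 hb) j hj]

end Form

section Irr

variable {V : Type} [AddCommGroup V] [Module k V] [FiniteDimensional k V]
  (ρ : Representation k (_root_.Matrix.SpecialLinearGroup (Fin 2) F) V)

theorem fRep_const (g : _root_.Matrix.SpecialLinearGroup (Fin 2) F) : fRep k F g (mon ι 0 0) = mon ι 0 0 := by
  funext z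
  show mon ι 0 0 _ = mon ι 0 0 z
  unfold mon
  simp only [_root_.Fin.isValue, _root_.map_add, _root_.map_mul, _root_.pow_zero, _root_.tsub_self, _root_.mul_one]

/-- an irreducible module is trivial or `y` has no fixed vector -/
theorem irr_cases (I : Inp ι lam y ζ) (hI : Irr ρ) :
    (∃ x, x ≠ 0 ∧ ∀ g, ρ g x = x) ∨ ∀ x, ρ y x = x → x = 0 := by
  obtain ⟨b, hb, hV⟩ := I.irr V ρ hI
  have hT : ∀ g, ∀ x ∈ (⊤ : Submodule k V), ρ g x ∈ (⊤ : Submodule k V) := fun _ _ _ => Submodule.mem_top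
  by_cases hb0 : b = 0
  · left
    subst hb0
    obtain ⟨φ, h1, -, h3⟩ := hV
    have hmem : mon ι 0 0 ∈ Vb ι 0 := by
      have h4 : fRep k F (u 0) (fRep k F w (mon ι 0 0)) ∈ MM (fRep k F) (Db ι 0) :=
        mem_MM _ 0 (Submodule.mem_span_singleton_self _)
      rw [fRep_const, fRep_const] at h4
      exact h4
    refine ⟨φ (mon ι 0 0), fun h0 => ?_, fun g => ?_⟩
    · have h4 := congrFun (h3 _ hmem h0) (0, 0)
      unfold mon at h4
      simp at h4
    · rw [← (h1 g _ hmem).2, fRep_const]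
  · right
    have h1 := I.wt V ρ ⊤ hT b hb hV
    rw [w65_zero b hb, if_neg hb0] at h1
    unfold e65 at h1
    rw [pow_zero, Submodule.finrank_eq_zero] at h1
    intro x hx
    have h2 : (⟨x, Submodule.mem_top⟩ : (⊤ : Submodule k V)) ∈ eig (subRep ρ ⊤ hT) y 1 := by
      rw [mem_eig, one_smul]
      exact Subtype.ext hx
    rw [h1] at h2
    exact congrArg Subtype.val ((Submodule.mem_bot k).1 h2)

end Irr

end Cfsg.Agent.H280.L64
end

-- part: H280/L64/RefC
section
/-!
# S5915, R6: the refined pressure theorem (helper280; the short proof is helper950's)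
-/

set_option autoImplicit false
set_option linter.unusedSectionVars false

namespace Cfsg.Agent.H280.L64

open Matrix Cfsg.Agent.H943.SL2Rel Cfsg.Agent.H943.RepAdd Cfsg.Agent.H939.L64 Cfsg.Agent.H875.L64
open Cfsg.Agent.H943.SL2Mod (Irr)

variable {k : Type} [Field k] [IsAlgClosed k] [CharP k 2] {F : Type} [Field F] [Fintype F] [DecidableEq F] {ι : F →+* k}
  {lam : Fˣ} {y : _root_.Matrix.SpecialLinearGroup (Fin 2) F} {ζ : k}
  {V : Type} [AddCommGroup V] [Module k V] [FiniteDimensional k V]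
  (ρ : Representation k (_root_.Matrix.SpecialLinearGroup (Fin 2) F) V)

/-- the vectors fixed modulo `A` -/
def Cf (A : Submodule k V) (hA : ∀ g, ∀ x ∈ A, ρ g x ∈ A) : Submodule k V where
  carrier := {x | ∀ g, ρ g x - x ∈ A}
  add_mem' := fun {a b} ha hb g => by
    have : ρ g (a + b) - (a + b) = (ρ g a - a) + (ρ g b - b) := by rw [map_add]; abel
    rw [this]
    exact A.add_mem (ha g) (hb g)
  zero_mem' := fun g => by rw [map_zero, sub_zero]; exact A.zero_mem
  smul_mem' := fun c x hx g => by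
    rw [map_smul, ← smul_sub]
    exact A.smul_mem c (hx g)

theorem le_Cf {A : Submodule k V} (hA : ∀ g, ∀ x ∈ A, ρ g x ∈ A) : A ≤ Cf ρ A hA :=
  fun x hx g => A.sub_mem (hA g x hx) hx

theorem Cf_inv {A : Submodule k V} (hA : ∀ g, ∀ x ∈ A, ρ g x ∈ A) : ∀ g, ∀ x ∈ Cf ρ A hA, ρ g x ∈ Cf ρ A hA := by
  intro g x hx
  have h1 : ρ g x = (ρ g x - x) + x := by abel
  rw [h1]
  exact Submodule.add_mem _ (le_Cf ρ hA (hx g)) hx

/-- the multiplicities of `Cf A` at the powers of two are those of `A` -/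
theorem spec_Cf (D : Dat ι lam y ζ) (I : Inp ι lam y ζ) {A : Submodule k V} (hA : ∀ g, ∀ x ∈ A, ρ g x ∈ A) {mA mC : ℕ → ℕ}
    (hmA : SpecM ι (subRep ρ A hA) lam y ζ mA) (hmC : SpecM ι (subRep ρ (Cf ρ A hA) (Cf_inv ρ hA)) lam y ζ mC)
    {i : ℕ} (hi : i < 6) : mC (2 ^ i) = mA (2 ^ i) := by
  have hi' : 2 ^ i < 64 := by
    calc 2 ^ i < 2 ^ 6 := Nat.pow_lt_pow_right (by norm_num) hi
      _ = 64 := by norm_num
  set C := Cf ρ A hA with hC
  set ρC := subRep ρ C (Cf_inv ρ hA) with hρC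
  let A' : Submodule k C := A.comap C.subtype
  have hA' : ∀ g, ∀ x ∈ A', ρC g x ∈ A' := fun g x hx => hA g _ hx
  have hmA' : SpecM ι (subRep ρC A' hA') lam y ζ mA := by
    have hiso : ∀ g (μ : k), Module.finrank k (eig (subRep ρC A' hA') g μ) = Module.finrank k (eig (subRep ρ A hA) g μ) := by
      intro g μ
      refine finrank_eig_equiv (Submodule.comapSubtypeEquivOfLe (le_Cf ρ hA)) ?_ g μ
      intro g x
      rfl
    constructor
    · intro j hj
      have h1 := hmA.1 j hj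
      unfold e65 at h1 ⊢
      rw [hiso, h1]
    · intro j hj
      have h1 := hmA.2 j hj
      unfold e63 at h1 ⊢
      rw [hiso, h1]
  obtain ⟨mq, hmq⟩ := I.ex _ (quotRep ρC A' hA')
  have hq0 : mq (2 ^ i) = 0 := by
    apply spec_pow hmq hi
    have h1 : eig (quotRep ρC A' hA') y (ζ ^ 2 ^ i) = ⊥ := by
      rw [eq_bot_iff]
      intro x hx
      obtain ⟨x, rfl⟩ := A'.mkQ_surjective x
      rw [mem_eig, quotRep_mk] at hx
      have h2 : A'.mkQ (ρC y x) = A'.mkQ x := by
        rw [← sub_eq_zero, ← map_sub, Submodule.mkQ_apply, Submodule.Quotient.mk_eq_zero]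
        exact x.2 y
      rw [h2] at hx
      have h3 : (ζ ^ 2 ^ i - 1) • A'.mkQ x = 0 := by rw [sub_smul, one_smul, ← hx, sub_self]
      rcases smul_eq_zero.1 h3 with h4 | h4
      · exfalso
        have h5 := D.prim.dvd_of_pow_eq_one _ (sub_eq_zero.1 h4)
        have h6 := Nat.le_of_dvd (by positivity) h5
        omega
      · exact (Submodule.mem_bot k).2 h4
    unfold e65
    rw [h1, finrank_bot]
  have h1 := R3c D ρC A' hA' hmC hmA' hmq (2 ^ i) hi'
  rw [hq0, add_zero] at h1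
  exact h1

/-- **R6: the refined pressure theorem**, from the inputs -/
theorem R6_of (D : Dat ι lam y ζ) (I : Inp ι lam y ζ) (B : V →ₗ[k] V →ₗ[k] k)
    (hB : ∀ g v w, B (ρ g v) (ρ g w) = B v w) (hnd : ∀ v, (∀ w, B v w = 0) → v = 0)
    (σ : V ≃+ V) (hσ : ∀ (c : k) v, σ (c • v) = c ^ 2 • σ v) (hσρ : ∀ g v, σ (ρ g v) = ρ g (σ v))
    {m : ℕ → ℕ} (hm : SpecM ι ρ lam y ζ m) (h0 : fixS ρ = ⊥) (hpos : m 0 ≠ 0) : m 0 + 6 ≤ 6 * m 1 := by
  have hy : y ^ 65 = 1 := y_pow D
  have hV1 := V1_inv (y := y) ρ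
  obtain ⟨m1, hm1⟩ := I.ex _ (subRep ρ (V1 ρ y) hV1)
  obtain ⟨mq, hmq⟩ := I.ex _ (quotRep ρ (V1 ρ y) hV1)
  have hadd := R3c D ρ (V1 ρ y) hV1 hm hm1 hmq
  -- `σ`-invariance
  have hs := spec_sigma_pow ρ D (σ : V →+ V) σ.injective hσ hσρ hm
  let σ1 : V1 ρ y →+ V1 ρ y :=
    { toFun := fun x => ⟨σ x, V1_sigma ρ (σ : V →+ V) hσ hσρ x x.2⟩
      map_zero' := Subtype.ext (map_zero σ)
      map_add' := fun a b => Subtype.ext (map_add σ _ _) }
  have hs1 := spec_sigma_pow (subRep ρ (V1 ρ y) hV1) D σ1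
    (fun a b h => Subtype.ext (σ.injective (congrArg Subtype.val h))) (fun c v => Subtype.ext (hσ c v))
    (fun g v => Subtype.ext (hσρ g v)) hm1
  -- the multiplicity of the trivial module
  have hm10 : m1 0 = m 0 := by
    rw [← spec_zero hm1, ← spec_zero hm]
    unfold e65
    rw [pow_zero]
    have h1 : (eig (subRep ρ (V1 ρ y) hV1) y 1).map (V1 ρ y).subtype = eig ρ y 1 := by
      ext x
      rw [mem_eig, one_smul]
      constructor
      · rintro ⟨v, hv, rfl⟩
        rw [SetLike.mem_coe, mem_eig, one_smul] at hv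
        exact congrArg Subtype.val hv
      · intro hx
        refine ⟨⟨x, mem_V1 ρ hx⟩, ?_, rfl⟩
        rw [SetLike.mem_coe, mem_eig, one_smul]
        exact Subtype.ext hx
    rw [← h1]
    exact (Submodule.equivMapOfInjective (V1 ρ y).subtype (V1 ρ y).injective_subtype _).finrank_eq
  have hfix1 : fixS (subRep ρ (V1 ρ y) hV1) = ⊥ := by
    rw [eq_bot_iff]
    intro x hx
    have h1 : (x : V) ∈ fixS ρ := fun g => congrArg Subtype.val (hx g)
    rw [h0] at h1
    exact (Submodule.mem_bot k).2 (Subtype.ext ((Submodule.mem_bot k).1 h1))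
  have hpr1 := I.pr _ _ m1 hm1
  rw [hfix1, finrank_bot, zero_add, hm10, Finset.sum_congr rfl fun i hi => hs1 i (Finset.mem_range.1 hi),
    Finset.sum_const, Finset.card_range, smul_eq_mul] at hpr1
  have ha1 := hadd 1 (by norm_num)
  by_cases hq1 : mq 1 = 0
  swap
  · omega
  exfalso
  -- the orthogonal of `V1`
  have hA := Or_inv ρ hB hV1
  have hmA := spec_or ρ D hB hnd hV1 hmq
  have hAy : ∀ x ∈ Or B (V1 ρ y), ρ y x = x → x = 0 := by
    intro x hx hyx
    refine hnd x fun w => ?_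
    have h1 := N_form (y := y) ρ (B := B.flip) (fun g v w => hB g w v) w hyx
    rw [LinearMap.flip_apply, LinearMap.flip_apply] at h1
    rw [← h1]
    exact hx _ (mem_V1 ρ (y_Ny ρ hy w))
  have hmq0 : ∀ i < 6, mq (2 ^ i) = 0 := by
    intro i hi
    have hi' : 2 ^ i < 64 := by
      calc 2 ^ i < 2 ^ 6 := Nat.pow_lt_pow_right (by norm_num) hi
        _ = 64 := by norm_num
    have h1 := hadd (2 ^ i) hi'
    rw [hs i hi, hs1 i hi] at h1
    omega
  -- the vectors fixed modulo `A`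
  set A := Or B (V1 ρ y) with hAdef
  obtain ⟨mC, hmC⟩ := I.ex _ (subRep ρ (Cf ρ A hA) (Cf_inv ρ hA))
  have hmC0 : mC 0 = 0 := by
    have h1 := I.pr _ _ mC hmC
    have h2 : fixS (subRep ρ (Cf ρ A hA) (Cf_inv ρ hA)) = ⊥ := by
      rw [eq_bot_iff]
      intro x hx
      have h1 : (x : V) ∈ fixS ρ := fun g => congrArg Subtype.val (hx g)
      rw [h0] at h1
      exact (Submodule.mem_bot k).2 (Subtype.ext ((Submodule.mem_bot k).1 h1))
    rw [h2, finrank_bot, zero_add, Finset.sum_eq_zero] at h1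
    · omega
    · intro i hi
      rw [spec_Cf ρ D I hA hmA hmC (Finset.mem_range.1 hi), hmq0 i (Finset.mem_range.1 hi)]
  -- `Cf A = A`
  have hCA : ∀ x ∈ Cf ρ A hA, x ∈ A := by
    intro x hx
    have h1 : Ny ρ y x - x ∈ A := Ny_sub ρ (fun g => hx g)
    have h2 : Ny ρ y x ∈ Cf ρ A hA := Ny_mem ρ (Cf_inv ρ hA) hx
    have h3 : (⟨Ny ρ y x, h2⟩ : Cf ρ A hA) ∈ eig (subRep ρ (Cf ρ A hA) (Cf_inv ρ hA)) y (ζ ^ 0) := by
      rw [pow_zero, mem_eig, one_smul]
      exact Subtype.ext (y_Ny ρ hy x)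
    have h4 : eig (subRep ρ (Cf ρ A hA) (Cf_inv ρ hA)) y (ζ ^ 0) = ⊥ := by
      rw [← Submodule.finrank_eq_zero (R := k)]
      have h5 := spec_zero hmC
      rw [hmC0] at h5
      exact h5
    rw [h4] at h3
    have h5 : Ny ρ y x = 0 := congrArg Subtype.val ((Submodule.mem_bot k).1 h3)
    rw [h5, zero_sub] at h1
    exact (Submodule.neg_mem_iff A).1 h1
  -- `A ≠ ⊤`
  have hAtop : A ≠ ⊤ := by
    intro h1
    have h2 : eig ρ y (ζ ^ 0) = ⊥ := by
      rw [eq_bot_iff]
      intro x hx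
      rw [pow_zero, mem_eig, one_smul] at hx
      exact (Submodule.mem_bot k).2 (hAy x (by rw [h1]; exact Submodule.mem_top) hx)
    apply hpos
    rw [← spec_zero hm]
    unfold e65
    rw [h2, finrank_bot]
  have hnt : Nontrivial (V ⧸ A) := Submodule.Quotient.nontrivial_iff.2 hAtop
  obtain ⟨W, hW, hWb, hWmin⟩ := exists_irr_sub (quotRep ρ A hA)
  have hIW : Irr (subRep (quotRep ρ A hA) W hW) := by
    refine ⟨Submodule.nontrivial_iff_ne_bot.2 hWb, fun W' hW' => ?_⟩
    rcases hWmin (W'.map W.subtype) (Submodule.map_subtype_le _ _) (by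
      rintro g _ ⟨x, hx, rfl⟩
      exact ⟨_, hW' g x hx, rfl⟩) with h1 | h1
    · left
      rw [eq_bot_iff]
      intro x hx
      have h2 : (x : V ⧸ A) ∈ W'.map W.subtype := ⟨x, hx, rfl⟩
      rw [h1] at h2
      exact (Submodule.mem_bot k).2 (Subtype.ext ((Submodule.mem_bot k).1 h2))
    · right
      rw [eq_top_iff]
      intro x _
      have h2 : (x : V ⧸ A) ∈ W'.map W.subtype := by rw [h1]; exact x.2
      obtain ⟨z, hz, e⟩ := h2
      rwa [← Subtype.ext (p := fun z => z ∈ W) e]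
  rcases irr_cases _ I hIW with ⟨x, hx0, hx⟩ | hx
  · -- a fixed vector of `V / A`
    obtain ⟨x, hxW⟩ := x
    obtain ⟨x, rfl⟩ := A.mkQ_surjective x
    have h1 : x ∈ Cf ρ A hA := by
      intro g
      have h2 : quotRep ρ A hA g (A.mkQ x) = A.mkQ x := congrArg Subtype.val (hx g)
      rw [quotRep_mk, ← sub_eq_zero, ← map_sub, Submodule.mkQ_apply, Submodule.Quotient.mk_eq_zero] at h2
      exact h2
    apply hx0
    apply Subtype.ext
    show A.mkQ x = 0
    rw [Submodule.mkQ_apply, Submodule.Quotient.mk_eq_zero]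
    exact hCA x h1
  · -- the preimage of `W` lies in `A`
    have hW' : ∀ g, ∀ x ∈ W.comap A.mkQ, ρ g x ∈ W.comap A.mkQ := by
      intro g x hx
      rw [Submodule.mem_comap, ← quotRep_mk ρ A hA]
      exact hW g _ hx
    have hWy : ∀ x ∈ W.comap A.mkQ, ρ y x = x → x = 0 := by
      intro x hxW hyx
      have h1 := hx ⟨A.mkQ x, hxW⟩ (Subtype.ext (by
        show quotRep ρ A hA y (A.mkQ x) = A.mkQ x
        rw [quotRep_mk, hyx]))
      have h2 : A.mkQ x = 0 := congrArg Subtype.val h1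
      rw [Submodule.mkQ_apply, Submodule.Quotient.mk_eq_zero] at h2
      exact hAy x h2 hyx
    have hle : W.comap A.mkQ ≤ A := by
      intro x hxW v hv
      have h1 : ∀ x ∈ W.comap A.mkQ, ∀ v, ρ y v = v → B x v = 0 := by
        intro x hxW v hv
        rw [← N_form ρ hB x hv, hWy _ (Ny_mem ρ hW' hxW) (y_Ny ρ hy x), map_zero, LinearMap.zero_apply]
      induction hv using Submodule.span_induction with
      | mem v hv =>
        obtain ⟨g, v, hv, rfl⟩ := hv
        have h2 := B_inv ρ hB g⁻¹ x v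
        rw [inv_inv] at h2
        rw [← h2]
        exact h1 _ (hW' _ x hxW) v hv
      | zero => rw [map_zero]
      | add a b _ _ ha hb => rw [map_add, ha, hb, add_zero]
      | smul c a _ ha => rw [map_smul, ha, smul_zero]
    apply hWb
    rw [eq_bot_iff]
    intro x hxW
    obtain ⟨x, rfl⟩ := A.mkQ_surjective x
    rw [Submodule.mem_bot, Submodule.mkQ_apply, Submodule.Quotient.mk_eq_zero]
    exact hle hxW

end Cfsg.Agent.H280.L64
end

-- part: H950/E8X/EpsA
section
/-!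
# S5915: the block idempotent of the Steinberg module of `SL₂(64)` (helper950)

`eps ρ = ∑ ρ g` over the elements `g` with `g * g ≠ 1` (the nontrivial elements of odd order): it acts as `0` on
`V_b`, `b < 63`, and as `1` on `V_63`.
-/

set_option autoImplicit false
set_option linter.unusedSectionVars false

namespace Cfsg.Agent.H950.E8X

open Matrix Cfsg.Agent.H943.SL2Rel Cfsg.Agent.H943.RepAdd Cfsg.Agent.H943.SL2Mod Cfsg.Agent.H939.L64

section Gen

variable {k G V : Type*} [Field k] [Group G] [Fintype G] [DecidableEq G] [AddCommGroup V] [Module k V]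

/-- the sum of the elements with `g * g ≠ 1` -/
def eps (ρ : Representation k G V) : Module.End k V := ∑ g ∈ Finset.univ.filter (fun g : G => g * g ≠ 1), ρ g

theorem eps_apply (ρ : Representation k G V) (v : V) :
    eps ρ v = ∑ g ∈ Finset.univ.filter (fun g : G => g * g ≠ 1), ρ g v := by
  unfold eps
  rw [LinearMap.sum_apply]

/-- `eps` commutes with everything normalising the group -/
theorem eps_comm' (ρ : Representation k G V) (σ : G ≃* G) (T : Module.End k V) (h : ∀ g v, T (ρ g v) = ρ (σ g) (T v))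
    (v : V) : T (eps ρ v) = eps ρ (T v) := by
  rw [eps_apply, eps_apply, map_sum]
  refine Finset.sum_nbij' (fun g => σ g) (fun g => σ.symm g) ?_ ?_ ?_ ?_ ?_
  · intro g hg
    rw [Finset.mem_filter] at hg ⊢
    refine ⟨Finset.mem_univ _, fun h1 => hg.2 ?_⟩
    rw [← map_mul] at h1
    exact (map_eq_one_iff σ σ.injective).1 h1
  · intro g hg
    rw [Finset.mem_filter] at hg ⊢
    refine ⟨Finset.mem_univ _, fun h1 => hg.2 ?_⟩
    rw [← map_mul] at h1
    exact (map_eq_one_iff σ.symm σ.symm.injective).1 h1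
  · intro g _
    exact σ.symm_apply_apply g
  · intro g _
    exact σ.apply_symm_apply g
  · intro g _
    exact h g v

theorem eps_comm (ρ : Representation k G V) (a : G) (v : V) : ρ a (eps ρ v) = eps ρ (ρ a v) := by
  refine eps_comm' ρ (MulAut.conj a) (ρ a) (fun g w => ?_) v
  rw [MulAut.conj_apply]
  show (ρ a * ρ g) w = (ρ (a * g * a⁻¹) * ρ a) w
  rw [← map_mul, ← map_mul, inv_mul_cancel_right]

end Gen

section SL

variable {k : Type*} [Field k] [CharP k 2] {F : Type*} [Field F] [Fintype F] [DecidableEq F] [CharP F 2]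

theorem mul_u (g : _root_.Matrix.SpecialLinearGroup (Fin 2) F) (s : F) : (g * u s).1 0 0 = g.1 0 0 ∧ (g * u s).1 1 0 = g.1 1 0 ∧
    (g * u s).1 0 1 = g.1 0 0 * s + g.1 0 1 ∧ (g * u s).1 1 1 = g.1 1 0 * s + g.1 1 1 := by
  have e : (g * u s).1 = g.1 * !![1, s; 0, 1] := rfl
  rw [e]
  simp only [Matrix.mul_apply, Fin.sum_univ_two, _root_.Fin.isValue, _root_.Matrix.of_apply, _root_.Matrix.cons_val', _root_.Matrix.cons_val_zero, _root_.Matrix.cons_val_fin_one, _root_.mul_one, _root_.Matrix.cons_val_one, _root_.MulZeroClass.mul_zero, _root_.add_zero, _root_.and_self]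

theorem u_one_ne : (u (1 : F) : _root_.Matrix.SpecialLinearGroup (Fin 2) F) ≠ 1 := by
  intro h0
  have h1 := congrArg (fun g : _root_.Matrix.SpecialLinearGroup (Fin 2) F => g.1 0 1) h0
  have h2 : (u (1 : F) : _root_.Matrix.SpecialLinearGroup (Fin 2) F).1 0 1 = 1 := rfl
  have h3 : (1 : _root_.Matrix.SpecialLinearGroup (Fin 2) F).1 0 1 = 0 := by simp
  simp only [h2, h3] at h1
  exact one_ne_zero h1

theorem mul_u_u (g : _root_.Matrix.SpecialLinearGroup (Fin 2) F) : g * u 1 * u 1 = g := by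
  rw [mul_assoc, ← u_add, CharTwo.add_self_eq_zero, u_zero, mul_one]

theorem sum_all (φ : F → F → k) : ∑ g : _root_.Matrix.SpecialLinearGroup (Fin 2) F, φ (g.1 0 0) (g.1 1 0) = 0 := by
  refine Finset.sum_involution (fun g _ => g * u 1) ?_ ?_ ?_ ?_
  · intro g _
    rw [(mul_u g 1).1, (mul_u g 1).2.1]
    exact CharTwo.add_self_eq_zero _
  · intro g _ _ h0
    exact u_one_ne (mul_eq_left.1 h0)
  · intro g _
    exact Finset.mem_univ _
  · intro g _
    exact mul_u_u g

theorem det_eq (g : _root_.Matrix.SpecialLinearGroup (Fin 2) F) : g.1 0 0 * g.1 1 1 + g.1 0 1 * g.1 1 0 = 1 := by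
  have h1 := g.2
  rw [Matrix.det_fin_two, CharTwo.sub_eq_add] at h1
  exact h1

theorem sq_eq_one (g : _root_.Matrix.SpecialLinearGroup (Fin 2) F) : g * g = 1 ↔ g.1 1 1 = g.1 0 0 := by
  have hd := det_eq g
  have e : (g * g).1 = g.1 * g.1 := rfl
  constructor
  · intro h0
    have h1 : ∀ i j, (g.1 * g.1) i j = (1 : Matrix (Fin 2) (Fin 2) F) i j := by
      intro i j
      rw [← e, h0]
      rfl
    have a00 := h1 0 0
    have a01 := h1 0 1
    simp only [Matrix.mul_apply, Fin.sum_univ_two, Matrix.one_apply_eq] at a00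
    rw [Matrix.mul_apply, Fin.sum_univ_two, Matrix.one_apply_ne (by decide)] at a01
    have b1 : g.1 0 0 * (g.1 0 0 + g.1 1 1) = 0 := by
      have : g.1 0 0 * (g.1 0 0 + g.1 1 1) = (g.1 0 0 * g.1 0 0 + g.1 0 1 * g.1 1 0) + (g.1 0 0 * g.1 1 1 + g.1 0 1 * g.1 1 0)
          - (g.1 0 1 * g.1 1 0 + g.1 0 1 * g.1 1 0) := by ring
      rw [this, a00, hd, CharTwo.add_self_eq_zero, CharTwo.add_self_eq_zero, sub_zero]
    have b2 : g.1 0 1 * (g.1 0 0 + g.1 1 1) = 0 := by
      rw [← a01]; ring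
    by_contra hne
    have h3 : g.1 0 0 + g.1 1 1 ≠ 0 := by
      intro h4
      apply hne
      have := eq_neg_of_add_eq_zero_left h4
      rw [CharTwo.neg_eq] at this
      exact this.symm
    have c1 := (mul_eq_zero.1 b1).resolve_right h3
    have c2 := (mul_eq_zero.1 b2).resolve_right h3
    rw [c1, c2, zero_mul, zero_mul, add_zero] at hd
    exact zero_ne_one hd
  · intro h0
    rw [h0] at hd
    refine Subtype.ext ?_
    rw [e]
    ext i j
    rw [Matrix.mul_apply, Fin.sum_univ_two]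
    fin_cases i <;> fin_cases j
    · show g.1 0 0 * g.1 0 0 + g.1 0 1 * g.1 1 0 = (1 : Matrix (Fin 2) (Fin 2) F) 0 0
      rw [hd, Matrix.one_apply_eq]
    · show g.1 0 0 * g.1 0 1 + g.1 0 1 * g.1 1 1 = (1 : Matrix (Fin 2) (Fin 2) F) 0 1
      rw [h0, Matrix.one_apply_ne (by decide), mul_comm, CharTwo.add_self_eq_zero]
    · show g.1 1 0 * g.1 0 0 + g.1 1 1 * g.1 1 0 = (1 : Matrix (Fin 2) (Fin 2) F) 1 0
      rw [h0, Matrix.one_apply_ne (by decide), mul_comm, CharTwo.add_self_eq_zero]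
    · show g.1 1 0 * g.1 0 1 + g.1 1 1 * g.1 1 1 = (1 : Matrix (Fin 2) (Fin 2) F) 1 1
      rw [h0, Matrix.one_apply_eq, mul_comm (g.1 1 0), add_comm, hd]

/-- the involution with first column `(a, c)` -/
def iv (a c : F) (hc : c ≠ 0) : _root_.Matrix.SpecialLinearGroup (Fin 2) F :=
  ⟨!![a, (1 + a * a) * c⁻¹; c, a], by
    rw [Matrix.det_fin_two_of, CharTwo.sub_eq_add, mul_assoc, inv_mul_cancel₀ hc, mul_one, add_comm, add_assoc,
      CharTwo.add_self_eq_zero, add_zero]⟩

theorem sum_invol (φ : F → F → k) : ∑ g ∈ Finset.univ.filter (fun g : _root_.Matrix.SpecialLinearGroup (Fin 2) F => g * g = 1),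
    φ (g.1 0 0) (g.1 1 0) = ∑ x ∈ (Finset.univ : Finset F) ×ˢ Finset.univ.filter (fun c : F => c ≠ 0), φ x.1 x.2 := by
  rw [← Finset.sum_filter_add_sum_filter_not _ (fun g : _root_.Matrix.SpecialLinearGroup (Fin 2) F => g.1 1 0 = 0)]
  have h0 : ∑ g ∈ (Finset.univ.filter (fun g : _root_.Matrix.SpecialLinearGroup (Fin 2) F => g * g = 1)).filter
      (fun g => g.1 1 0 = 0), φ (g.1 0 0) (g.1 1 0) = 0 := by
    refine Finset.sum_involution (fun g _ => g * u 1) ?_ ?_ ?_ ?_
    · intro g _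
      rw [(mul_u g 1).1, (mul_u g 1).2.1]
      exact CharTwo.add_self_eq_zero _
    · intro g _ _ h0
      exact u_one_ne (mul_eq_left.1 h0)
    · intro g hg
      rw [Finset.mem_filter, Finset.mem_filter, sq_eq_one] at hg ⊢
      refine ⟨⟨Finset.mem_univ _, ?_⟩, ?_⟩
      · rw [(mul_u g 1).1, (mul_u g 1).2.2.2, hg.2, zero_mul, zero_add, hg.1.2]
      · rw [(mul_u g 1).2.1, hg.2]
    · intro g _
      exact mul_u_u g
  rw [h0, zero_add]
  symm
  refine Finset.sum_bij' (fun x hx => iv x.1 x.2 (Finset.mem_filter.1 (Finset.mem_product.1 hx).2).2)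
    (fun g _ => (g.1 0 0, g.1 1 0)) ?_ ?_ ?_ ?_ ?_
  · intro x hx
    rw [Finset.mem_filter, Finset.mem_filter, sq_eq_one]
    exact ⟨⟨Finset.mem_univ _, rfl⟩, (Finset.mem_filter.1 (Finset.mem_product.1 hx).2).2⟩
  · intro g hg
    rw [Finset.mem_product, Finset.mem_filter]
    exact ⟨Finset.mem_univ _, Finset.mem_univ _, (Finset.mem_filter.1 hg).2⟩
  · intro x _
    rfl
  · intro g hg
    rw [Finset.mem_filter, Finset.mem_filter, sq_eq_one] at hg
    obtain ⟨⟨-, h1⟩, hc⟩ := hg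
    have hd := det_eq g
    rw [h1] at hd
    refine Subtype.ext ?_
    ext i j
    fin_cases i <;> fin_cases j
    · rfl
    · show (1 + g.1 0 0 * g.1 0 0) * (g.1 1 0)⁻¹ = g.1 0 1
      have e1 : (1 : F) + g.1 0 0 * g.1 0 0 = g.1 0 1 * g.1 1 0 := by
        have e2 : (1 : F) + g.1 0 0 * g.1 0 0 = (g.1 0 0 * g.1 0 0 + g.1 0 1 * g.1 1 0) + g.1 0 0 * g.1 0 0 :=
          congrArg (· + g.1 0 0 * g.1 0 0) hd.symm
        rw [e2, add_comm, ← add_assoc, CharTwo.add_self_eq_zero, zero_add]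
      rw [e1, mul_assoc, mul_inv_cancel₀ hc, mul_one]
    · rfl
    · exact h1.symm
  · intro x _
    rfl

variable (ι : F →+* k)

theorem eps_mon (hF : Fintype.card F = 64) {b : ℕ} (hb : b < 64) :
    eps (fRep k F) (mon ι b b) = if b = 63 then mon ι b b else 0 := by
  have hc0 : ((Fintype.card F : ℕ) : k) = 0 := by
    rw [hF, CharP.cast_eq_zero_iff k 2]
    decide
  funext z
  obtain ⟨x, y⟩ := z
  have h1 : eps (fRep k F) (mon ι b b) (x, y) = ∑ g ∈ Finset.univ.filter
      (fun g : _root_.Matrix.SpecialLinearGroup (Fin 2) F => g * g ≠ 1), ι (x * g.1 0 0 + y * g.1 1 0) ^ b := by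
    rw [eps_apply, Finset.sum_apply]
    refine Finset.sum_congr rfl fun g _ => ?_
    show mon ι b b _ = _
    rw [mon_self]
  have h2 : ∑ g ∈ Finset.univ.filter (fun g : _root_.Matrix.SpecialLinearGroup (Fin 2) F => g * g ≠ 1),
      ι (x * g.1 0 0 + y * g.1 1 0) ^ b = ∑ g ∈ Finset.univ.filter
      (fun g : _root_.Matrix.SpecialLinearGroup (Fin 2) F => g * g = 1), ι (x * g.1 0 0 + y * g.1 1 0) ^ b := by
    have h3 := Finset.sum_filter_add_sum_filter_not Finset.univ (fun g : _root_.Matrix.SpecialLinearGroup (Fin 2) F => g * g = 1)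
      (fun g => ι (x * g.1 0 0 + y * g.1 1 0) ^ b)
    rw [sum_all (fun a c => ι (x * a + y * c) ^ b)] at h3
    have h4 := eq_neg_of_add_eq_zero_right h3
    rw [CharTwo.neg_eq] at h4
    exact h4
  rw [h1, h2, sum_invol (fun a c => ι (x * a + y * c) ^ b), Finset.sum_product_right]
  by_cases hx : x = 0
  · subst hx
    have h5 : ∑ c ∈ Finset.univ.filter (fun c : F => c ≠ 0), ∑ a : F, ι (0 * a + y * c) ^ b = 0 := by
      refine Finset.sum_eq_zero fun c _ => ?_
      simp only [zero_mul, zero_add]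
      rw [Finset.sum_const, Finset.card_univ, ← Nat.cast_smul_eq_nsmul k, hc0, zero_smul]
    rw [h5]
    by_cases h63 : b = 63
    · rw [if_pos h63, mon_self, map_zero, zero_pow (by omega)]
    · rw [if_neg h63]
      rfl
  · have h6 : ∀ c : F, ∑ a : F, ι (x * a + y * c) ^ b = ι (∑ s : F, s ^ b) := by
      intro c
      rw [map_sum]
      refine Fintype.sum_equiv ((Equiv.mulLeft₀ x hx).trans (Equiv.addRight (y * c))) _ _ fun t => ?_
      rw [map_pow]
      rfl
    rw [Finset.sum_congr rfl fun c _ => h6 c, Finset.sum_const]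
    by_cases h63 : b = 63
    · rw [if_pos h63, mon_self]
      have e1 : b = Fintype.card F - 1 := by rw [hF]; exact h63
      have e2 : (Finset.univ.filter (fun c : F => c ≠ 0)).card = 63 := by
        rw [Finset.filter_ne', Finset.card_erase_of_mem (Finset.mem_univ _), Finset.card_univ, hF]
      have e3 : ι x ^ b = 1 := by
        rw [e1, ← map_pow, FiniteField.pow_card_sub_one_eq_one x hx, map_one]
      rw [e2, e3, e1, sum_pow_card, CharTwo.neg_eq, map_one, nsmul_one]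
      show ((63 : ℕ) : k) = 1
      have e4 : ((63 : ℕ) : k) = ((1 + 2 * 31 : ℕ) : k) := by norm_num
      have e5 : ((2 : ℕ) : k) = 0 := CharP.cast_eq_zero k 2
      rw [e4, Nat.cast_add, Nat.cast_mul, Nat.cast_one, e5, zero_mul, add_zero]
    · rw [if_neg h63, FiniteField.sum_pow_lt_card_sub_one _ b (by rw [hF]; omega), map_zero, smul_zero]
      rfl

/-- **`eps` on `V_b`** -/
theorem eps_Vb (hF : Fintype.card F = 64) {b : ℕ} (hb : b < 64) {f : F × F → k} (hf : f ∈ Vb ι b) :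
    eps (fRep k F) f = if b = 63 then f else 0 := by
  induction hf using Submodule.span_induction with
  | mem x hx =>
    obtain ⟨t, d, hd, rfl⟩ := hx
    obtain ⟨c, rfl⟩ := Submodule.mem_span_singleton.1 hd
    rw [← eps_comm, ← eps_comm, map_smul (eps (fRep k F)), eps_mon ι hF hb]
    by_cases h63 : b = 63
    · rw [if_pos h63, if_pos h63]
    · rw [if_neg h63, if_neg h63, smul_zero, map_zero, map_zero]
  | zero => rw [map_zero]; by_cases h63 : b = 63 <;> simp [h63]
  | add x y _ _ hx hy =>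
    rw [map_add, hx, hy]
    by_cases h63 : b = 63 <;> simp [h63]
  | smul a x _ hx =>
    rw [map_smul, hx]
    by_cases h63 : b = 63 <;> simp [h63]

/-- `eps` on a submodule isomorphic to `V_b` -/
theorem eps_IsV (hF : Fintype.card F = 64) {V : Type*} [AddCommGroup V] [Module k V]
    (ρ : Representation k (_root_.Matrix.SpecialLinearGroup (Fin 2) F) V) {b : ℕ} (hb : b < 64) {W : Submodule k V}
    (h : IsV ι b ρ W) {v : V} (hv : v ∈ W) : eps ρ v = if b = 63 then v else 0 := by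
  obtain ⟨φ, h1, h2, h3⟩ := h
  rw [← h2] at hv
  obtain ⟨f, hf, rfl⟩ := hv
  have h4 : eps ρ (φ f) = φ (eps (fRep k F) f) := by
    rw [eps_apply, eps_apply, map_sum]
    exact Finset.sum_congr rfl fun g _ => ((h1 g f hf).2).symm
  rw [h4, eps_Vb ι hF hb hf]
  by_cases h63 : b = 63 <;> simp only [h63, ↓ _root_.reduceIte, _root_.map_zero]

end SL

end Cfsg.Agent.H950.E8X
end

-- part: H950/E8X/EpsB
section
/-!
# S5915: the Steinberg block of an `SL₂(64)`-module (helper950)

`RF` : the facts R1, R2 of the plan. `spec_poly` : composition multiplicities and a polynomial relation of `eps`.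
-/

set_option autoImplicit false
set_option linter.unusedSectionVars false

namespace Cfsg.Agent.H950.E8X

open Matrix Cfsg.Agent.H943.SL2Rel Cfsg.Agent.H943.RepAdd Cfsg.Agent.H943.SL2Mod Cfsg.Agent.H939.L64

/-- the facts R1, R2 of the plan -/
structure RF {k : Type} [Field k] {F : Type} [Field F] [Fintype F] [DecidableEq F] (ι : F →+* k) (lam : Fˣ)
    (y : _root_.Matrix.SpecialLinearGroup (Fin 2) F) (ζ : k) : Prop where
  r1 : ∀ {V : Type} [AddCommGroup V] [Module k V] [FiniteDimensional k V]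
    (ρ : Representation k (_root_.Matrix.SpecialLinearGroup (Fin 2) F) V), Irr ρ → ∃ b < 64, IsV ι b ρ ⊤
  r2 : ∀ {V : Type} [AddCommGroup V] [Module k V] [FiniteDimensional k V]
    (ρ : Representation k (_root_.Matrix.SpecialLinearGroup (Fin 2) F) V) (W : Submodule k V) (hW : ∀ g, ∀ x ∈ W, ρ g x ∈ W)
    {b : ℕ}, b < 64 → IsV ι b ρ W → (∀ j < 65, e65 (subRep ρ W hW) y ζ j = w65 b j) ∧
      ∀ j < 63, e63 ι (subRep ρ W hW) lam j = w63 b j

/-- polynomials and intertwining maps -/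
theorem aeval_intertw {k V M : Type*} [Field k] [AddCommGroup V] [Module k V] [AddCommGroup M] [Module k M]
    (f : V →ₗ[k] M) (S : Module.End k V) (T : Module.End k M) (h : ∀ v, f (S v) = T (f v)) (p : Polynomial k) (v : V) :
    f (Polynomial.aeval S p v) = Polynomial.aeval T p (f v) := by
  have hn : ∀ (n : ℕ) (v : V), f ((S ^ n) v) = (T ^ n) (f v) := by
    intro n
    induction n with
    | zero => intro v; rfl
    | succ n ih =>
      intro v
      rw [pow_succ, pow_succ, Module.End.mul_apply, Module.End.mul_apply, ih, h]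
  induction p using Polynomial.induction_on' with
  | add p q hp hq => rw [map_add, map_add, LinearMap.add_apply, LinearMap.add_apply, map_add, hp, hq]
  | monomial n a =>
    rw [Polynomial.aeval_monomial, Polynomial.aeval_monomial, Module.End.mul_apply, Module.End.mul_apply,
      Module.algebraMap_end_apply, Module.algebraMap_end_apply, map_smul, hn]

theorem pow_intertw {k V M : Type*} [Field k] [AddCommGroup V] [Module k V] [AddCommGroup M] [Module k M]
    (f : V →ₗ[k] M) (S : Module.End k V) (T : Module.End k M) (h : ∀ v, f (S v) = T (f v)) (n : ℕ) (v : V) :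
    f ((S ^ n) v) = (T ^ n) (f v) := by
  have := aeval_intertw f S T h (Polynomial.X ^ n) v
  rwa [map_pow, map_pow, Polynomial.aeval_X, Polynomial.aeval_X] at this

theorem aeval_eig {k V : Type*} [Field k] [AddCommGroup V] [Module k V] (S : Module.End k V) {c : k} {v : V}
    (h : S v = c • v) (p : Polynomial k) : Polynomial.aeval S p v = p.eval c • v := by
  have hn : ∀ (n : ℕ), (S ^ n) v = c ^ n • v := by
    intro n
    induction n with
    | zero => rw [pow_zero, pow_zero, one_smul]; rfl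
    | succ n ih => rw [pow_succ, Module.End.mul_apply, h, map_smul, ih, smul_smul, pow_succ, mul_comm]
  induction p using Polynomial.induction_on' with
  | add p q hp hq => rw [map_add, LinearMap.add_apply, hp, hq, Polynomial.eval_add, add_smul]
  | monomial n a =>
    rw [Polynomial.aeval_monomial, Module.End.mul_apply, Module.algebraMap_end_apply, hn, smul_smul,
      Polynomial.eval_monomial]

section Quot

variable {k : Type*} [Field k] {G V : Type*} [Group G] [AddCommGroup V] [Module k V]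
  (ρ : Representation k G V) (W : Submodule k V) (hW : ∀ g, ∀ x ∈ W, ρ g x ∈ W)

theorem eps_sub [Fintype G] [DecidableEq G] (x : W) : ((eps (subRep ρ W hW) x : W) : V) = eps ρ x := by
  rw [eps_apply, eps_apply]
  exact (map_sum W.subtype _ _).trans rfl

theorem eps_quot [Fintype G] [DecidableEq G] (x : V) : eps (quotRep ρ W hW) (W.mkQ x) = W.mkQ (eps ρ x) := by
  rw [eps_apply, eps_apply, map_sum]
  rfl

/-- maximal invariant subspaces -/
theorem exists_max_sub [FiniteDimensional k V] [Nontrivial V] : ∃ (W : Submodule k V)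
    (_ : ∀ g, ∀ x ∈ W, ρ g x ∈ W), W ≠ ⊤ ∧
    ∀ W' : Submodule k V, W ≤ W' → (∀ g, ∀ x ∈ W', ρ g x ∈ W') → W' = W ∨ W' = ⊤ := by
  obtain ⟨W, ⟨h1, h2⟩, hmax⟩ := (wellFounded_gt (α := Submodule k V)).has_min
    {W : Submodule k V | W ≠ ⊤ ∧ ∀ g, ∀ x ∈ W, ρ g x ∈ W} ⟨⊥, bot_ne_top, fun g x hx => by
      rw [Submodule.mem_bot] at hx ⊢
      rw [hx, map_zero]⟩
  refine ⟨W, h2, h1, fun W' hle hW' => ?_⟩
  by_contra hcon
  push Not at hcon
  exact hmax W' ⟨hcon.2, hW'⟩ (lt_of_le_of_ne hle (Ne.symm hcon.1))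

end Quot

section

variable {k : Type*} [Field k] {F : Type*} [Field F] {V : Type*} [AddCommGroup V] [Module k V]
  (ρ : Representation k (_root_.Matrix.SpecialLinearGroup (Fin 2) F) V) (W : Submodule k V) (hW : ∀ g, ∀ x ∈ W, ρ g x ∈ W)

theorem irr_subRep (h0 : W ≠ ⊥) (hmin : ∀ W' ≤ W, (∀ g, ∀ x ∈ W', ρ g x ∈ W') → W' = ⊥ ∨ W' = W) :
    Irr (subRep ρ W hW) := by
  refine ⟨Submodule.nontrivial_iff_ne_bot.2 h0, fun W' hW' => ?_⟩
  have hinv : ∀ g, ∀ x ∈ W'.map W.subtype, ρ g x ∈ W'.map W.subtype := by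
    rintro g _ ⟨x, hx, rfl⟩
    exact ⟨_, hW' g x hx, rfl⟩
  rcases hmin _ (Submodule.map_subtype_le W W') hinv with h1 | h1
  · left
    rw [Submodule.eq_bot_iff]
    intro x hx
    have h2 : (x : V) ∈ W'.map W.subtype := ⟨x, hx, rfl⟩
    rw [h1, Submodule.mem_bot] at h2
    exact Subtype.ext h2
  · right
    rw [Submodule.eq_top_iff']
    intro x
    have h2 : (x : V) ∈ W'.map W.subtype := by rw [h1]; exact x.2
    obtain ⟨z, hz, e⟩ := h2
    rwa [← Subtype.ext (p := fun z => z ∈ W) e]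

theorem irr_quotRep (h0 : W ≠ ⊤)
    (hmax : ∀ W' : Submodule k V, W ≤ W' → (∀ g, ∀ x ∈ W', ρ g x ∈ W') → W' = W ∨ W' = ⊤) :
    Irr (quotRep ρ W hW) := by
  refine ⟨Submodule.Quotient.nontrivial_iff.2 h0, fun X hX => ?_⟩
  have hinv : ∀ g, ∀ x ∈ X.comap W.mkQ, ρ g x ∈ X.comap W.mkQ := by
    intro g x hx
    rw [Submodule.mem_comap] at hx ⊢
    rw [← quotRep_mk ρ W hW]
    exact hX g _ hx
  have hle : W ≤ X.comap W.mkQ := by
    intro x hx
    rw [Submodule.mem_comap, Submodule.mkQ_apply, (Submodule.Quotient.mk_eq_zero W).2 hx]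
    exact X.zero_mem
  rcases hmax _ hle hinv with h1 | h1
  · left
    rw [Submodule.eq_bot_iff]
    intro x hx
    obtain ⟨v, rfl⟩ := W.mkQ_surjective x
    have h2 : v ∈ X.comap W.mkQ := hx
    rw [h1] at h2
    exact (Submodule.Quotient.mk_eq_zero W).2 h2
  · right
    rw [Submodule.eq_top_iff']
    intro x
    obtain ⟨v, rfl⟩ := W.mkQ_surjective x
    have h2 : v ∈ X.comap W.mkQ := by rw [h1]; trivial
    exact h2

variable [Fintype F] [DecidableEq F] {ι : F →+* k}

theorem IsV_sub {b : ℕ} (h : IsV ι b (subRep ρ W hW) ⊤) : IsV ι b ρ W := by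
  obtain ⟨φ, h1, h2, h3⟩ := h
  refine ⟨W.subtype ∘ₗ φ, fun g f hf => ⟨(h1 g f hf).1, ?_⟩, ?_, fun f hf e => h3 f hf (Subtype.ext e)⟩
  · show ((φ (fRep k F g f) : W) : V) = ρ g (φ f : W)
    rw [(h1 g f hf).2]
    rfl
  · rw [Submodule.map_comp, h2, Submodule.map_top, Submodule.range_subtype]

theorem finrank_IsV [FiniteDimensional k V] {b : ℕ} (h : IsV ι b ρ W) :
    Module.finrank k W = Module.finrank k (Vb ι b) := by
  obtain ⟨φ, -, h2, h3⟩ := h
  let f : Vb ι b →ₗ[k] W := (φ ∘ₗ (Vb ι b).subtype).codRestrict W fun x => by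
    rw [← h2]
    exact ⟨x, x.2, rfl⟩
  refine (LinearEquiv.finrank_eq (LinearEquiv.ofBijective f ⟨?_, ?_⟩)).symm
  · rw [injective_iff_map_eq_zero]
    intro x hx
    exact Subtype.ext (h3 x x.2 (congrArg Subtype.val hx))
  · rintro ⟨x, hx⟩
    rw [← h2] at hx
    obtain ⟨z, hz, e⟩ := hx
    exact ⟨⟨z, hz⟩, Subtype.ext e⟩

end

section Add

variable {k : Type} [Field k] [CharP k 2] {F : Type} [Field F] [Fintype F] [DecidableEq F] {ι : F →+* k}
  {lam : Fˣ} {y : _root_.Matrix.SpecialLinearGroup (Fin 2) F} {ζ : k}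

theorem e65_add (D : Dat ι lam y ζ) (hy : y ^ 65 = 1) {V : Type} [AddCommGroup V] [Module k V] [FiniteDimensional k V]
    (ρ : Representation k (_root_.Matrix.SpecialLinearGroup (Fin 2) F) V) (W : Submodule k V) (hW : ∀ g, ∀ x ∈ W, ρ g x ∈ W) (j : ℕ) :
    e65 ρ y ζ j = e65 (subRep ρ W hW) y ζ j + e65 (quotRep ρ W hW) y ζ j := by
  refine finrank_eig (n := 65) ρ W hW ?_ ?_ ?_ ?_
  · rw [← map_pow, hy, map_one]
  · intro h0
    rw [CharP.cast_eq_zero_iff k 2] at h0
    revert h0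
    decide
  · rw [← pow_mul, mul_comm, pow_mul, D.prim.pow_eq_one, one_pow]
  · exact pow_ne_zero _ (D.prim.ne_zero (by decide))

theorem e63_add (D : Dat ι lam y ζ) {V : Type} [AddCommGroup V] [Module k V] [FiniteDimensional k V]
    (ρ : Representation k (_root_.Matrix.SpecialLinearGroup (Fin 2) F) V) (W : Submodule k V) (hW : ∀ g, ∀ x ∈ W, ρ g x ∈ W) (j : ℕ) :
    e63 ι ρ lam j = e63 ι (subRep ρ W hW) lam j + e63 ι (quotRep ρ W hW) lam j := by
  have h1 : (lam : F) ^ 63 = 1 := by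
    have := FiniteField.pow_card_sub_one_eq_one (lam : F) lam.ne_zero
    rwa [D.card] at this
  refine finrank_eig (n := 63) ρ W hW ?_ ?_ ?_ ?_
  · rw [← map_pow, ← h_pow]
    have h2 : lam ^ 63 = 1 := Units.ext (by rw [Units.val_pow_eq_pow_val, h1]; rfl)
    rw [h2, h_one, map_one]
  · intro h0
    rw [CharP.cast_eq_zero_iff k 2] at h0
    revert h0
    decide
  · rw [← pow_mul, mul_comm, pow_mul, ← map_pow, h1, map_one, one_pow]
  · exact pow_ne_zero _ ((map_ne_zero ι).2 lam.ne_zero)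

theorem spec_add (D : Dat ι lam y ζ) (hy : y ^ 65 = 1) {V : Type} [AddCommGroup V] [Module k V]
    [FiniteDimensional k V]
    (ρ : Representation k (_root_.Matrix.SpecialLinearGroup (Fin 2) F) V) (W : Submodule k V) (hW : ∀ g, ∀ x ∈ W, ρ g x ∈ W)
    {m m' : ℕ → ℕ} (h : SpecM ι (subRep ρ W hW) lam y ζ m) (h' : SpecM ι (quotRep ρ W hW) lam y ζ m') :
    SpecM ι ρ lam y ζ (fun b => m b + m' b) := by
  constructor
  · intro j hj
    rw [e65_add D hy ρ W hW, h.1 j hj, h'.1 j hj, ← Finset.sum_add_distrib]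
    exact Finset.sum_congr rfl fun b _ => (add_mul _ _ _).symm
  · intro j hj
    rw [e63_add D ρ W hW, h.2 j hj, h'.2 j hj, ← Finset.sum_add_distrib]
    exact Finset.sum_congr rfl fun b _ => (add_mul _ _ _).symm

theorem spec_single (R : RF ι lam y ζ) {V : Type} [AddCommGroup V] [Module k V]
    [FiniteDimensional k V]
    (ρ : Representation k (_root_.Matrix.SpecialLinearGroup (Fin 2) F) V) (W : Submodule k V) (hW : ∀ g, ∀ x ∈ W, ρ g x ∈ W)
    {b : ℕ} (hb : b < 64) (h : IsV ι b ρ W) :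
    SpecM ι (subRep ρ W hW) lam y ζ (fun c => if c = b then 1 else 0) := by
  have hs : ∀ f : ℕ → ℕ, ∑ c ∈ Finset.range 64, (if c = b then 1 else 0) * f c = f b := by
    intro f
    rw [Finset.sum_eq_single b]
    · rw [if_pos rfl, one_mul]
    · intro c _ hc
      rw [if_neg hc, zero_mul]
    · intro h0
      exact absurd (Finset.mem_range.2 hb) h0
  obtain ⟨h1, h2⟩ := R.r2 ρ W hW hb h
  exact ⟨fun j hj => by rw [h1 j hj, hs fun c => w65 c j], fun j hj => by rw [h2 j hj, hs fun c => w63 c j]⟩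

/-- the multiplicities of an irreducible representation -/
theorem spec_irr (R : RF ι lam y ζ) {V : Type} [AddCommGroup V] [Module k V] [FiniteDimensional k V]
    (ρ : Representation k (_root_.Matrix.SpecialLinearGroup (Fin 2) F) V) {b : ℕ} (hb : b < 64) (h : IsV ι b ρ ⊤) :
    SpecM ι ρ lam y ζ (fun c => if c = b then 1 else 0) := by
  have h1 := spec_single R ρ ⊤ (fun _ _ _ => trivial) hb h
  have key : ∀ (g : _root_.Matrix.SpecialLinearGroup (Fin 2) F) (μ : k),
      Module.finrank k (eig (subRep ρ ⊤ (fun _ _ _ => trivial)) g μ) = Module.finrank k (eig ρ g μ) := by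
    intro g μ
    refine LinearEquiv.finrank_eq (LinearEquiv.ofBijective
      ({ toFun := fun x => ⟨((x : (⊤ : Submodule k V)) : V), ?_⟩, map_add' := fun x y => rfl,
         map_smul' := fun c x => rfl } :
        eig (subRep ρ ⊤ (fun _ _ _ => trivial)) g μ →ₗ[k] eig ρ g μ) ⟨?_, ?_⟩)
    · have h2 := (mem_eig _).1 x.2
      rw [mem_eig]
      exact congrArg Subtype.val h2
    · intro x z e
      have e' : ((x : (⊤ : Submodule k V)) : V) = ((z : (⊤ : Submodule k V)) : V) :=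
        congrArg (fun w : eig ρ g μ => (w : V)) e
      exact Subtype.ext (Subtype.ext e')
    · rintro ⟨x, hx⟩
      refine ⟨⟨⟨x, trivial⟩, ?_⟩, rfl⟩
      rw [mem_eig] at hx ⊢
      exact Subtype.ext hx
  refine ⟨fun j hj => ?_, fun j hj => ?_⟩
  · rw [← h1.1 j hj]
    exact (key _ _).symm
  · rw [← h1.2 j hj]
    exact (key _ _).symm

/-- **composition multiplicities** -/
theorem spec_poly [CharP F 2] (D : Dat ι lam y ζ) (R : RF ι lam y ζ) (hy : y ^ 65 = 1) (p : Polynomial k) :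
    ∀ (n : ℕ) {V : Type} [AddCommGroup V] [Module k V] [FiniteDimensional k V]
    (ρ : Representation k (_root_.Matrix.SpecialLinearGroup (Fin 2) F) V), Module.finrank k V = n →
    (∀ v, Polynomial.aeval (eps ρ) p v = 0) →
    ∃ m : ℕ → ℕ, SpecM ι ρ lam y ζ m ∧ ∀ b < 64, m b ≠ 0 → p.eval (if b = 63 then 1 else 0) = 0 := by
  intro n
  induction n using Nat.strong_induction_on with
  | _ n ih =>
    intro V _ _ _ ρ hn hp
    rcases subsingleton_or_nontrivial V with hV | hV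
    · refine ⟨fun _ => 0, ⟨fun j _ => ?_, fun j _ => ?_⟩, fun b _ h => absurd rfl h⟩
      · simp only [zero_mul, Finset.sum_const_zero]
        exact Module.finrank_zero_of_subsingleton
      · simp only [zero_mul, Finset.sum_const_zero]
        exact Module.finrank_zero_of_subsingleton
    · obtain ⟨W, hW, h0, hmin⟩ := exists_irr_sub ρ
      obtain ⟨b, hb, hV⟩ := R.r1 _ (irr_subRep ρ W hW h0 hmin)
      have hV' : IsV ι b ρ W := IsV_sub ρ W hW hV
      have hlt : Module.finrank k (V ⧸ W) < n := by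
        have h1 := Submodule.finrank_quotient_add_finrank W
        have h2 : 0 < Module.finrank k W := by
          have : Nontrivial W := Submodule.nontrivial_iff_ne_bot.2 h0
          exact Module.finrank_pos
        omega
      obtain ⟨m', hm', hp'⟩ := ih _ hlt (quotRep ρ W hW) rfl (by
        intro v
        obtain ⟨x, rfl⟩ := W.mkQ_surjective v
        rw [← aeval_intertw W.mkQ (eps ρ) (eps (quotRep ρ W hW)) (fun v => (eps_quot ρ W hW v).symm) p x, hp, map_zero])
      refine ⟨_, spec_add D hy ρ W hW (spec_single R ρ W hW hb hV') hm', fun c hc hne => ?_⟩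
      by_cases hcb : c = b
      · subst hcb
        obtain ⟨x, hx, hx0⟩ := Submodule.exists_mem_ne_zero_of_ne_bot h0
        have h3 : eps ρ x = (if c = 63 then (1 : k) else 0) • x := by
          rw [eps_IsV ι D.card ρ hb hV' hx]
          by_cases h63 : c = 63 <;> simp [h63]
        have h4 := hp x
        rw [aeval_eig (eps ρ) h3 p] at h4
        exact (smul_eq_zero.1 h4).resolve_right hx0
      · refine hp' c hc ?_
        have h5 : (if c = b then 1 else 0) + m' c ≠ 0 := hne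
        rwa [if_neg hcb, zero_add] at h5

end Add

end Cfsg.Agent.H950.E8X
end

-- part: H950/E8X/EpsC
section
/-!
# S5915: the Steinberg block, part C (helper950)

`EPS` : the part `A` of an `SL₂(64)`-module without Steinberg factors.
-/

set_option autoImplicit false
set_option linter.unusedSectionVars false

namespace Cfsg.Agent.H950.E8X

open Matrix Cfsg.Agent.H943.SL2Rel Cfsg.Agent.H943.RepAdd Cfsg.Agent.H943.SL2Mod Cfsg.Agent.H939.L64

section YPow

variable {k : Type} [Field k] {F : Type} [Field F] [Fintype F] [DecidableEq F] {ι : F →+* k}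
  {lam : Fˣ} {y : _root_.Matrix.SpecialLinearGroup (Fin 2) F} {ζ : k}

theorem y_pow (D : Dat ι lam y ζ) : y ^ 65 = 1 := by
  have hζ0 : ζ ≠ 0 := D.prim.ne_zero (by decide)
  have h65 : ζ ^ 65 = 1 := D.prim.pow_eq_one
  have hne : ζ - ζ⁻¹ ≠ 0 := by
    intro h0
    have h1 : ζ ^ 2 = 1 := by
      have h2 := sub_eq_zero.1 h0
      rw [pow_two]
      nth_rewrite 2 [h2]
      exact mul_inv_cancel₀ hζ0
    exact D.prim.pow_ne_one_of_pos_of_lt (by decide) (by decide) h1
  set M : Matrix (Fin 2) (Fin 2) k := y.1.map ι with hM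
  have hdet : M 0 0 * M 1 1 - M 0 1 * M 1 0 = 1 := by
    have h1 := y.2
    rw [Matrix.det_fin_two] at h1
    have h2 := congrArg ι h1
    rw [map_sub, map_mul, map_mul, map_one] at h2
    exact h2
  have htr : M 0 0 + M 1 1 = ζ + ζ⁻¹ := by
    rw [← D.tr, map_add]
    rfl
  have hCH : M * M = (ζ + ζ⁻¹) • M - 1 := by
    ext i j
    rw [Matrix.mul_apply, Fin.sum_univ_two, Matrix.sub_apply, Matrix.smul_apply, smul_eq_mul, ← htr]
    fin_cases i <;> fin_cases j
    · show M 0 0 * M 0 0 + M 0 1 * M 1 0 = (M 0 0 + M 1 1) * M 0 0 - (1 : Matrix (Fin 2) (Fin 2) k) 0 0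
      rw [Matrix.one_apply_eq]
      linear_combination -hdet
    · show M 0 0 * M 0 1 + M 0 1 * M 1 1 = (M 0 0 + M 1 1) * M 0 1 - (1 : Matrix (Fin 2) (Fin 2) k) 0 1
      rw [Matrix.one_apply_ne (by decide)]
      ring
    · show M 1 0 * M 0 0 + M 1 1 * M 1 0 = (M 0 0 + M 1 1) * M 1 0 - (1 : Matrix (Fin 2) (Fin 2) k) 1 0
      rw [Matrix.one_apply_ne (by decide)]
      ring
    · show M 1 0 * M 0 1 + M 1 1 * M 1 1 = (M 0 0 + M 1 1) * M 1 1 - (1 : Matrix (Fin 2) (Fin 2) k) 1 1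
      rw [Matrix.one_apply_eq]
      linear_combination -hdet
  have key : ∀ n : ℕ, (ζ - ζ⁻¹) • M ^ (n + 1) = (ζ ^ (n + 1) - ζ⁻¹ ^ (n + 1)) • M - (ζ ^ n - ζ⁻¹ ^ n) • 1 := by
    intro n
    induction n with
    | zero => simp
    | succ n ih =>
      rw [pow_succ M (n + 1), ← smul_mul_assoc, ih, sub_mul, smul_mul_assoc, hCH, smul_mul_assoc, one_mul, smul_sub,
        smul_smul]
      have e1 : (ζ ^ (n + 1) - ζ⁻¹ ^ (n + 1)) * (ζ + ζ⁻¹) = (ζ ^ (n + 1 + 1) - ζ⁻¹ ^ (n + 1 + 1)) +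
          (ζ ^ n - ζ⁻¹ ^ n) := by
        have e2 : ζ * ζ⁻¹ = 1 := mul_inv_cancel₀ hζ0
        rw [pow_succ ζ (n + 1), pow_succ ζ⁻¹ (n + 1), pow_succ ζ n, pow_succ ζ⁻¹ n]
        linear_combination (ζ ^ n - ζ⁻¹ ^ n) * e2
      rw [e1, add_smul]
      abel
  have h1 := key 64
  have e3 : ζ⁻¹ ^ (64 + 1) = 1 := by rw [inv_pow, h65, inv_one]
  have e4 : ζ ^ 64 = ζ⁻¹ := by
    refine eq_inv_of_mul_eq_one_left ?_
    rw [← pow_succ]
    exact h65
  have e5 : ζ⁻¹ ^ 64 = ζ := by rw [inv_pow, e4, inv_inv]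
  rw [e3, h65, sub_self, zero_smul, e4, e5, zero_sub, ← neg_smul, neg_sub] at h1
  have h2 : M ^ 65 = 1 := by
    have h3 := congrArg (fun X => (ζ - ζ⁻¹)⁻¹ • X) h1
    simp only [smul_smul, inv_mul_cancel₀ hne, one_smul] at h3
    exact h3
  refine Subtype.ext ?_
  have h4 : (y ^ 65).1.map ι = M ^ 65 := by
    rw [hM]
    have h5 := map_pow (RingHom.mapMatrix ι) y.1 65
    exact h5
  have h6 : Function.Injective (fun X : Matrix (Fin 2) (Fin 2) F => X.map ι) :=
    Matrix.map_injective ι.injective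
  apply h6
  show (y ^ 65).1.map ι = (1 : Matrix (Fin 2) (Fin 2) F).map ι
  rw [h4, h2, Matrix.map_one _ (map_zero ι) (map_one ι)]

end YPow

/-! ### bilinear maps -/

/-- bilinear maps from a module with small factors to a module with large submodules vanish -/
theorem bil_zero {k G V M : Type*} [Field k] [Group G] [AddCommGroup V] [Module k V] [AddCommGroup M] [Module k M]
    [FiniteDimensional k V] [FiniteDimensional k M] (ρ : Representation k G V) (ρ' : Representation k G M)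
    (β : V →ₗ[k] V →ₗ[k] M) (hβ : ∀ g v w, ρ' g (β v w) = β (ρ g v) (ρ g w))
    (hM : ∀ W : Submodule k M, (∀ g, ∀ x ∈ W, ρ' g x ∈ W) → W ≠ ⊥ → 16 < Module.finrank k W)
    (A : Submodule k V)
    (hA : ∀ U ≤ A, (∀ g, ∀ x ∈ U, ρ g x ∈ U) → U ≠ ⊥ → ∃ U' : Submodule k V, U' < U ∧ (∀ g, ∀ x ∈ U', ρ g x ∈ U') ∧
      Module.finrank k U ≤ Module.finrank k U' + 4) :
    ∀ (n : ℕ) (U₁ U₂ : Submodule k V), U₁ ≤ A → U₂ ≤ A → (∀ g, ∀ x ∈ U₁, ρ g x ∈ U₁) → (∀ g, ∀ x ∈ U₂, ρ g x ∈ U₂) →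
      Module.finrank k U₁ + Module.finrank k U₂ = n → ∀ v ∈ U₁, ∀ w ∈ U₂, β v w = 0 := by
  intro n
  induction n using Nat.strong_induction_on with
  | _ n ih =>
    intro U₁ U₂ h1 h2 i1 i2 hn
    by_cases z1 : U₁ = ⊥
    · intro v hv w _
      rw [z1, Submodule.mem_bot] at hv
      rw [hv, map_zero, LinearMap.zero_apply]
    by_cases z2 : U₂ = ⊥
    · intro v _ w hw
      rw [z2, Submodule.mem_bot] at hw
      rw [hw, map_zero]
    obtain ⟨U₁', l1, j1, d1⟩ := hA U₁ h1 i1 z1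
    obtain ⟨U₂', l2, j2, d2⟩ := hA U₂ h2 i2 z2
    have f1 := Submodule.finrank_lt_finrank_of_lt l1
    have f2 := Submodule.finrank_lt_finrank_of_lt l2
    have k1 := ih _ (by omega) U₁' U₂ (l1.le.trans h1) h2 j1 i2 rfl
    have k2 := ih _ (by omega) U₁ U₂' h1 (l2.le.trans h2) i1 j2 rfl
    -- complements
    have hc : ∀ (U U' : Submodule k V), U' < U → Module.finrank k U ≤ Module.finrank k U' + 4 →
        ∃ C : Submodule k V, C ≤ U ∧ U ≤ U' ⊔ C ∧ Module.finrank k C ≤ 4 := by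
      intro U U' hl hd
      obtain ⟨C, hC⟩ := Submodule.exists_isCompl (U'.comap U.subtype)
      have g1 : Module.finrank k (U'.comap U.subtype) = Module.finrank k U' :=
        LinearEquiv.finrank_eq (Submodule.comapSubtypeEquivOfLe hl.le)
      have g2 := Submodule.finrank_add_eq_of_isCompl hC
      have g3 : Module.finrank k (C.map U.subtype) = Module.finrank k C :=
        Submodule.finrank_map_subtype_eq U C
      refine ⟨C.map U.subtype, Submodule.map_subtype_le U C, ?_, by omega⟩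
      intro x hx
      have g4 : (⟨x, hx⟩ : U) ∈ U'.comap U.subtype ⊔ C := by rw [hC.sup_eq_top]; trivial
      obtain ⟨a, ha, b, hb, e⟩ := Submodule.mem_sup.1 g4
      exact Submodule.mem_sup.2 ⟨a, ha, b, ⟨b, hb, rfl⟩, congrArg Subtype.val e⟩
    obtain ⟨C₁, c1, s1, e1⟩ := hc U₁ U₁' l1 d1
    obtain ⟨C₂, c2, s2, e2⟩ := hc U₂ U₂' l2 d2
    set P : Submodule k M := Submodule.map₂ β U₁ U₂ with hP
    have hPinv : ∀ g, ∀ x ∈ P, ρ' g x ∈ P := by
      intro g
      have h3 : P ≤ P.comap (ρ' g) := Submodule.map₂_le.2 fun v hv w hw => by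
        rw [Submodule.mem_comap, hβ]
        exact Submodule.apply_mem_map₂ _ (i1 g v hv) (i2 g w hw)
      exact fun x hx => h3 hx
    have hPC : P ≤ Submodule.map₂ β C₁ C₂ := by
      refine Submodule.map₂_le.2 fun v hv w hw => ?_
      obtain ⟨a, ha, b, hb, rfl⟩ := Submodule.mem_sup.1 (s1 hv)
      obtain ⟨a', ha', b', hb', rfl⟩ := Submodule.mem_sup.1 (s2 hw)
      rw [LinearMap.map_add₂, k1 a ha _ hw, zero_add, map_add, k2 b (c1 hb) a' ha', zero_add]
      exact Submodule.apply_mem_map₂ _ hb hb'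
    have hdim : Module.finrank k (Submodule.map₂ β C₁ C₂) ≤ 16 := by
      let b1 := Module.finBasis k C₁
      let b2 := Module.finBasis k C₂
      have h3 : Submodule.map₂ β C₁ C₂ ≤ Submodule.span k (Set.range fun p : Fin (Module.finrank k C₁) ×
          Fin (Module.finrank k C₂) => β (b1 p.1 : V) (b2 p.2 : V)) := by
        refine Submodule.map₂_le.2 fun v hv w hw => ?_
        have r1 := congrArg Subtype.val (b1.sum_repr ⟨v, hv⟩)
        have r2 := congrArg Subtype.val (b2.sum_repr ⟨w, hw⟩)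
        rw [← show ((⟨v, hv⟩ : C₁) : V) = v from rfl, ← r1, ← show ((⟨w, hw⟩ : C₂) : V) = w from rfl, ← r2]
        rw [AddSubmonoidClass.coe_finset_sum, AddSubmonoidClass.coe_finset_sum, LinearMap.map_sum₂]
        refine sum_mem fun i _ => ?_
        rw [map_sum]
        refine sum_mem fun j _ => ?_
        rw [Submodule.coe_smul, Submodule.coe_smul, LinearMap.map_smul₂, map_smul]
        exact Submodule.smul_mem _ _ (Submodule.smul_mem _ _ (Submodule.subset_span ⟨(i, j), rfl⟩))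
      refine (Submodule.finrank_mono h3).trans ((finrank_range_le_card _).trans ?_)
      rw [Fintype.card_prod, Fintype.card_fin, Fintype.card_fin]
      calc Module.finrank k C₁ * Module.finrank k C₂ ≤ 4 * 4 := Nat.mul_le_mul e1 e2
        _ = 16 := rfl
    have hP0 : P = ⊥ := by
      by_contra h0
      have h3 := hM P hPinv h0
      have h4 := Submodule.finrank_mono hPC
      omega
    intro v hv w hw
    have h5 : β v w ∈ P := Submodule.apply_mem_map₂ _ hv hw
    rw [hP0] at h5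
    exact (Submodule.mem_bot k).1 h5

end Cfsg.Agent.H950.E8X
end

-- part: H950/E8X/EpsD
section
/-!
# S5915: the Steinberg block, part D (helper950)

`EPS` : the part `A` of an `SL₂(64)`-module without Steinberg factors.
-/

set_option autoImplicit false
set_option linter.unusedSectionVars false

namespace Cfsg.Agent.H950.E8X

open Matrix Cfsg.Agent.H943.SL2Rel Cfsg.Agent.H943.RepAdd Cfsg.Agent.H943.SL2Mod Cfsg.Agent.H939.L64

section Dim

variable {k : Type*} [Field k] [CharP k 2] {F : Type*} [Field F] [Fintype F] [DecidableEq F] (ι : F →+* k)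

theorem finrank_Vb_le (b : ℕ) : Module.finrank k (Vb ι b) ≤
    ((Finset.range (b + 1)).filter (fun m => b.choose m % 2 = 1)).card := by
  classical
  have h1 : Vb ι b ≤ Submodule.span k
      (((((Finset.range (b + 1)).filter (fun m => b.choose m % 2 = 1)).image (fun m => mon ι b m) :
        Finset (F × F → k))) : Set (F × F → k)) := by
    refine (Vb_le ι b).trans (Submodule.span_mono ?_)
    rintro _ ⟨m, ⟨hm, hc⟩, rfl⟩
    rw [Finset.coe_image]
    refine ⟨m, ?_, rfl⟩
    rw [Finset.mem_coe, Finset.mem_filter, Finset.mem_range]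
    refine ⟨by omega, ?_⟩
    by_contra h0
    apply hc
    rw [CharP.cast_eq_zero_iff k 2]
    omega
  haveI : FiniteDimensional k (Submodule.span k
      (((((Finset.range (b + 1)).filter (fun m => b.choose m % 2 = 1)).image (fun m => mon ι b m) :
        Finset (F × F → k))) : Set (F × F → k))) := FiniteDimensional.span_finset k _
  exact (Submodule.finrank_mono h1).trans ((finrank_span_finset_le_card _).trans Finset.card_image_le)

theorem finrank_Vb_small {b : ℕ} (hb : b < 63) (hp : pat 3 b ≠ 0) : Module.finrank k (Vb ι b) ≤ 4 := by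
  refine (finrank_Vb_le ι b).trans ?_
  revert b
  decide +kernel

theorem finrank_Vb_big (hF : Fintype.card F = 64) : 16 < Module.finrank k (Vb ι 63) := by
  classical
  let v : F → Vb ι 63 := fun t => ⟨fRep k F (u t) (fRep k F w (mon ι 63 63)), mem_MM _ t (mon_mem_Db ι 63)⟩
  have hv : ∀ t x y, (v t : F × F → k) (x, y) = if x * t + y = 0 then 0 else 1 := by
    intro t x y
    show fRep k F (u t) (fRep k F w (mon ι 63 63)) (x, y) = _
    rw [fRep_u, fRep_w, mon_self]
    by_cases h0 : x * t + y = 0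
    · rw [if_pos h0, h0, neg_zero, map_zero, zero_pow (by decide)]
    · rw [if_neg h0, ← map_pow]
      have h1 := FiniteField.pow_card_sub_one_eq_one (-(x * t + y)) (neg_ne_zero.2 h0)
      rw [hF] at h1
      rw [h1, map_one]
  have hli : LinearIndependent k v := by
    rw [Fintype.linearIndependent_iff]
    intro c hc s
    have h1 : ∀ x y, ∑ t, c t * (if x * t + y = 0 then 0 else 1) = 0 := by
      intro x y
      have h2 : ((∑ t, c t • v t : Vb ι 63) : F × F → k) (x, y) = ((0 : Vb ι 63) : F × F → k) (x, y) := by rw [hc]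
      rw [AddSubmonoidClass.coe_finset_sum, Finset.sum_apply] at h2
      rw [show ((0 : Vb ι 63) : F × F → k) (x, y) = 0 from rfl] at h2
      refine Eq.trans (Finset.sum_congr rfl fun t _ => ?_) h2
      show _ = c t * (v t : F × F → k) (x, y)
      rw [hv]
    have h2 := h1 0 1
    have h3 := h1 1 (-s)
    simp only [zero_mul, zero_add, one_mul] at h2 h3
    have h4 : ∑ t, c t * (if (1 : F) = 0 then 0 else 1) - ∑ t, c t * (if t + -s = 0 then 0 else 1) = c s := by
      rw [← Finset.sum_sub_distrib, Finset.sum_eq_single s]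
      · rw [if_neg one_ne_zero, if_pos (add_neg_cancel s), mul_one, mul_zero, sub_zero]
      · intro t _ hts
        rw [if_neg one_ne_zero, if_neg (fun h0 => hts (by rwa [← sub_eq_add_neg, sub_eq_zero] at h0)), sub_self]
      · intro h0
        exact absurd (Finset.mem_univ _) h0
    rw [h2, h3, sub_zero] at h4
    exact h4.symm
  haveI : FiniteDimensional k (Vb ι 63) := by
    have h1 : Vb ι 63 ≤ Submodule.span k
        (((Finset.range 64).image (fun m => mon ι 63 m) : Finset (F × F → k)) : Set (F × F → k)) := by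
      refine (Vb_le ι 63).trans (Submodule.span_mono ?_)
      rintro _ ⟨m, ⟨hm, -⟩, rfl⟩
      rw [Finset.coe_image]
      exact ⟨m, by rw [Finset.mem_coe, Finset.mem_range]; omega, rfl⟩
    haveI := FiniteDimensional.span_finset k ((Finset.range 64).image (fun m => mon ι 63 m) : Finset (F × F → k))
    exact Submodule.finiteDimensional_of_le h1
  have h5 := hli.fintype_card_le_finrank
  rw [hF] at h5
  omega

end Dim

section Main

variable {k : Type} [Field k] [CharP k 2] {F : Type} [Field F] [Fintype F] [DecidableEq F] [CharP F 2] {ι : F →+* k}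
  {lam : Fˣ} {y : _root_.Matrix.SpecialLinearGroup (Fin 2) F} {ζ : k}

/-- modules on which `eps` is injective -/
theorem big_of_inj (D : Dat ι lam y ζ) (R : RF ι lam y ζ) {V : Type} [AddCommGroup V] [Module k V]
    [FiniteDimensional k V] (ρ : Representation k (_root_.Matrix.SpecialLinearGroup (Fin 2) F) V)
    (h0 : ∀ v, eps ρ v = 0 → v = 0) (W : Submodule k V) (hW : ∀ g, ∀ x ∈ W, ρ g x ∈ W) (hne : W ≠ ⊥) :
    16 < Module.finrank k W := by
  haveI : Nontrivial W := Submodule.nontrivial_iff_ne_bot.2 hne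
  obtain ⟨W', hW', h1, hmin⟩ := exists_irr_sub (subRep ρ W hW)
  obtain ⟨b, hb, hV⟩ := R.r1 _ (irr_subRep (subRep ρ W hW) W' hW' h1 hmin)
  have hV' : IsV ι b (subRep ρ W hW) W' := IsV_sub _ W' hW' hV
  obtain ⟨x, hx, hx0⟩ := Submodule.exists_mem_ne_zero_of_ne_bot h1
  have h2 := eps_IsV ι D.card (subRep ρ W hW) hb hV' hx
  have hb63 : b = 63 := by
    by_contra h63
    rw [if_neg h63] at h2
    apply hx0
    apply Subtype.ext
    apply h0
    rw [← eps_sub ρ W hW, h2]
    rfl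
  subst hb63
  have h3 := finrank_IsV (subRep ρ W hW) W' hV'
  have h4 := finrank_Vb_big ι D.card
  have h5 := Submodule.finrank_le W'
  omega

/-- no vector fixed by `y` -/
theorem fix_of_inj (D : Dat ι lam y ζ) (R : RF ι lam y ζ) {V : Type} [AddCommGroup V] [Module k V]
    [FiniteDimensional k V] (ρ : Representation k (_root_.Matrix.SpecialLinearGroup (Fin 2) F) V)
    (h0 : ∀ v, eps ρ v = 0 → v = 0) (v : V) (hv : ρ y v = v) : v = 0 := by
  obtain ⟨m, hm, hp⟩ := spec_poly D R (y_pow D) (minpoly k (eps ρ)) _ ρ rfl (fun v => by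
    rw [minpoly.aeval]
    rfl)
  have h1 : ∀ b < 64, b ≠ 63 → m b = 0 := by
    intro b hb h63
    by_contra hne
    have h2 := hp b hb hne
    rw [if_neg h63] at h2
    have h3 : (minpoly k (eps ρ)).IsRoot 0 := h2
    rw [← Module.End.hasEigenvalue_iff_isRoot] at h3
    obtain ⟨x, hx⟩ := h3.exists_hasEigenvector
    apply hx.2
    apply h0
    rw [Module.End.mem_eigenspace_iff.1 hx.1, zero_smul]
  have h2 := hm.1 0 (by decide)
  have h3 : ∑ b ∈ Finset.range 64, m b * w65 b 0 = 0 := by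
    refine Finset.sum_eq_zero fun b hb => ?_
    by_cases h63 : b = 63
    · rw [h63, show w65 63 0 = 0 by decide +kernel, mul_zero]
    · rw [h1 b (Finset.mem_range.1 hb) h63, zero_mul]
  rw [h3] at h2
  have h4 : eig ρ y (ζ ^ 0) = ⊥ := Submodule.finrank_eq_zero.1 h2
  have h5 : v ∈ eig ρ y (ζ ^ 0) := by
    rw [mem_eig, pow_zero, one_smul, hv]
  rw [h4] at h5
  exact (Submodule.mem_bot k).1 h5

/-- the uniqueness of the multiplicities (R3b of the plan, over `ℕ`) -/
def Uniq : Prop := ∀ m m' : ℕ → ℤ,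
  (∀ j < 65, ∑ b ∈ Finset.range 64, m b * (w65 b j : ℤ) = ∑ b ∈ Finset.range 64, m' b * (w65 b j : ℤ)) →
  (∀ j < 63, ∑ b ∈ Finset.range 64, m b * (w63 b j : ℤ) = ∑ b ∈ Finset.range 64, m' b * (w63 b j : ℤ)) →
  ∀ b < 64, m b = m' b

theorem Uniq.spec (U : Uniq) {V : Type} [AddCommGroup V] [Module k V]
    {ρ : Representation k (_root_.Matrix.SpecialLinearGroup (Fin 2) F) V} {m m' : ℕ → ℕ}
    (h : SpecM ι ρ lam y ζ m) (h' : SpecM ι ρ lam y ζ m') : ∀ b < 64, m b = m' b := by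
  intro b hb
  have h1 := U (fun b => (m b : ℤ)) (fun b => (m' b : ℤ)) (fun j hj => ?_) (fun j hj => ?_) b hb
  · exact_mod_cast h1
  · have h2 := (h.1 j hj).symm.trans (h'.1 j hj)
    exact_mod_cast h2
  · have h2 := (h.2 j hj).symm.trans (h'.2 j hj)
    exact_mod_cast h2

/-- small steps -/
theorem steps (D : Dat ι lam y ζ) (R : RF ι lam y ζ) (Q : Uniq) {V : Type} [AddCommGroup V] [Module k V]
    [FiniteDimensional k V] (ρ : Representation k (_root_.Matrix.SpecialLinearGroup (Fin 2) F) V) (hm : SpecM ι ρ lam y ζ (pat 3))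
    (n : ℕ) (U : Submodule k V) (hle : U ≤ LinearMap.ker (eps ρ ^ n)) (hU : ∀ g, ∀ x ∈ U, ρ g x ∈ U) (hne : U ≠ ⊥) :
    ∃ U' : Submodule k V, U' < U ∧ (∀ g, ∀ x ∈ U', ρ g x ∈ U') ∧
      Module.finrank k U ≤ Module.finrank k U' + 4 := by
  haveI : Nontrivial U := Submodule.nontrivial_iff_ne_bot.2 hne
  set r := subRep ρ U hU with hr
  obtain ⟨W, hW, h1, hmax⟩ := exists_max_sub r
  have hI := irr_quotRep r W hW h1 hmax
  obtain ⟨b, hb, hV⟩ := R.r1 _ hI
  -- `b ≠ 63`
  have h63 : b ≠ 63 := by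
    rintro rfl
    haveI : Nontrivial (U ⧸ W) := hI.1
    obtain ⟨x, hx0⟩ := exists_ne (0 : U ⧸ W)
    obtain ⟨v, rfl⟩ := W.mkQ_surjective x
    have h2 : ∀ z : U ⧸ W, eps (quotRep r W hW) z = z := fun z => by
      rw [eps_IsV ι D.card (quotRep r W hW) (by decide) hV (Submodule.mem_top (x := z)), if_pos rfl]
    have h3 : ∀ j : ℕ, (eps (quotRep r W hW) ^ j) (W.mkQ v) = W.mkQ v := by
      intro j
      induction j with
      | zero => rfl
      | succ j ih => rw [pow_succ, Module.End.mul_apply, h2, ih]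
    apply hx0
    rw [← h3 n, ← pow_intertw W.mkQ (eps r) (eps (quotRep r W hW)) (fun v => (eps_quot r W hW v).symm)]
    have h4 : (eps r ^ n) v = 0 := by
      apply Subtype.ext
      have h5 := pow_intertw U.subtype (eps r) (eps ρ) (fun v => eps_sub ρ U hU v) n v
      have h6 : (eps ρ ^ n) (v : V) = 0 := LinearMap.mem_ker.1 (hle v.2)
      exact h5.trans h6
    rw [h4, map_zero]
  -- multiplicities
  obtain ⟨m1, hm1, -⟩ := spec_poly D R (y_pow D) 0 _ (subRep r W hW) rfl (fun v => by rw [map_zero]; rfl)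
  obtain ⟨m2, hm2, -⟩ := spec_poly D R (y_pow D) 0 _ (quotRep ρ U hU) rfl (fun v => by rw [map_zero]; rfl)
  have hm3 := spec_irr R (quotRep r W hW) hb hV
  have hm4 := spec_add D (y_pow D) ρ U hU (spec_add D (y_pow D) r W hW hm1 hm3) hm2
  have hp : pat 3 b ≠ 0 := by
    have h5 := Q.spec hm hm4 b hb
    rw [h5]
    show m1 b + (if b = b then 1 else 0) + m2 b ≠ 0
    rw [if_pos rfl]
    omega
  refine ⟨W.map U.subtype, ?_, ?_, ?_⟩
  · refine lt_of_le_of_ne (Submodule.map_subtype_le U W) fun h0 => h1 ?_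
    rw [Submodule.eq_top_iff']
    intro x
    have h6 : (x : V) ∈ W.map U.subtype := by rw [h0]; exact x.2
    obtain ⟨z, hz, e⟩ := h6
    rwa [← Subtype.ext (p := fun z => z ∈ U) e]
  · rintro g _ ⟨x, hx, rfl⟩
    exact ⟨_, hW g x hx, rfl⟩
  · rw [Submodule.finrank_map_subtype_eq]
    have h6 := Submodule.finrank_quotient_add_finrank W
    have h7 := finrank_IsV (quotRep r W hW) ⊤ hV
    rw [finrank_top] at h7
    have h8 := finrank_Vb_small ι (b := b) (by omega) hp
    omega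

private noncomputable def _root_.Cfsg.Agent.KOd30a962.k34 : type_of% @Finset.range := @(fun x0 => @Finset.mk.{0} _ (@Quot.mk.{1} _ (@Setoid.r.{1} _ _) (@List.range.loop @x0 [])) (@Multiset.nodup_range @x0))
private theorem _root_.Cfsg.Agent.KOd30a962.e34 : @Finset.range = @_root_.Cfsg.Agent.KOd30a962.k34 := by delta _root_.Cfsg.Agent.KOd30a962.k34; rfl'
private noncomputable def _root_.Cfsg.Agent.KOd30a962.k36.{ku0, ku1} : type_of% @Multiset.foldr.{ku0, ku1} := @(fun x0 x1 x2 x3 x4 x5 => @Quot.lift.{(ku1+1), (ku0+1)} _ _ _ @(fun x6 => @List.foldr.{ku1, ku0} _ _ @x2 @x4 @x6) @(fun x6 x7 x8 => @List.Perm.foldr_eq.{ku1, ku0} _ _ _ _ _ _ @x8 @x4) @x5)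
private theorem _root_.Cfsg.Agent.KOd30a962.e36.{ku0, ku1} : @Multiset.foldr.{ku0, ku1} = @_root_.Cfsg.Agent.KOd30a962.k36.{ku0, ku1} := by delta _root_.Cfsg.Agent.KOd30a962.k36; rfl'
private noncomputable def _root_.Cfsg.Agent.KOd30a962.k37.{ku0} : type_of% @Multiset.sum.{ku0} := @(fun x0 x1 => @Cfsg.Agent.KOd30a962.k36.{ku0, ku0} _ _ @(fun x2 x3 => @Add.add.{ku0} _ (@AddSemigroup.toAdd.{ku0} _ (@AddMonoid.toAddSemigroup.{ku0} _ (@AddCommMonoid.toAddMonoid.{ku0} _ @x1))) @x2 @x3) (@Multiset.sum._proof_1.{ku0} _ _) (@Zero.zero.{ku0} _ (@AddMonoid.toZero.{ku0} _ (@AddCommMonoid.toAddMonoid.{ku0} _ @x1))))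
private theorem _root_.Cfsg.Agent.KOd30a962.e37.{ku0} : @Multiset.sum.{ku0} = @_root_.Cfsg.Agent.KOd30a962.k37.{ku0} := by delta _root_.Cfsg.Agent.KOd30a962.k37; rewrite [← Cfsg.Agent.KOd30a962.e36.{ku0, ku0}]; rfl'
private noncomputable def _root_.Cfsg.Agent.KOd30a962.k38.{ku0, ku1} : type_of% @Finset.sum.{ku0, ku1} := @(fun x0 x1 x2 x3 x4 => @Cfsg.Agent.KOd30a962.k37.{ku1} _ @x2 (@Quot.lift.{(ku0+1), (ku1+1)} _ _ _ @(fun x5 => @Quot.mk.{(ku1+1)} _ (@Setoid.r.{(ku1+1)} _ _) (@List.map.{ku0, ku1} _ _ @x4 @x5)) (@Multiset.map._proof_1.{ku0, ku1} _ _ @x4) (@Finset.val.{ku0} _ @x3)))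
private theorem _root_.Cfsg.Agent.KOd30a962.e38.{ku0, ku1} : @Finset.sum.{ku0, ku1} = @_root_.Cfsg.Agent.KOd30a962.k38.{ku0, ku1} := by delta _root_.Cfsg.Agent.KOd30a962.k38; rewrite [← Cfsg.Agent.KOd30a962.e37.{ku1}]; rfl'

/-- **EPS** -/
theorem EPS' (D : Dat ι lam y ζ) (R : RF ι lam y ζ) (Q : Uniq) {V : Type} [AddCommGroup V] [Module k V]
    [FiniteDimensional k V]
    (ρ : Representation k (_root_.Matrix.SpecialLinearGroup (Fin 2) F) V) (B : V →ₗ[k] V →ₗ[k] k)
    (hB : ∀ g v w, B (ρ g v) (ρ g w) = B v w) (hnd : ∀ v, (∀ w, B v w = 0) → v = 0)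
    (br : V →ₗ[k] V →ₗ[k] V) (hbr : ∀ g v w, ρ g (br v w) = br (ρ g v) (ρ g w)) (hm : SpecM ι ρ lam y ζ (pat 3)) :
    ∃ A : Submodule k V, A ≠ ⊥ ∧ A ≠ ⊤ ∧
      (∀ (n : V ≃ₗ[k] V), (∃ τ : _root_.Matrix.SpecialLinearGroup (Fin 2) F ≃* _root_.Matrix.SpecialLinearGroup (Fin 2) F, ∀ g v, n (ρ g v) = ρ (τ g) (n v)) →
        ∀ v ∈ A, n v ∈ A) ∧
      (∀ v, ρ y v = v → v ∈ A) ∧ (∀ a ∈ A, ∀ b ∈ A, br a b ∈ A) ∧ (∀ a ∈ A, (∀ b ∈ A, B a b = 0) → a = 0) := by
  set N := Module.finrank k V with hN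
  set A : Submodule k V := LinearMap.ker (eps ρ ^ N) with hA
  have hAinv : ∀ g, ∀ x ∈ A, ρ g x ∈ A := by
    intro g x hx
    rw [hA, LinearMap.mem_ker] at hx ⊢
    rw [← pow_intertw (ρ g) (eps ρ) (eps ρ) (fun v => eps_comm ρ g v), hx, map_zero]
  have hinj : ∀ z, eps (quotRep ρ A hAinv) z = 0 → z = 0 := by
    intro z hz
    obtain ⟨v, rfl⟩ := A.mkQ_surjective z
    rw [eps_quot] at hz
    rw [Submodule.mkQ_apply, Submodule.Quotient.mk_eq_zero] at hz ⊢
    rw [hA, LinearMap.mem_ker, ← Module.End.mul_apply, ← pow_succ] at hz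
    have h1 : v ∈ LinearMap.ker (eps ρ ^ (N + 1)) := hz
    rwa [Module.End.ker_pow_eq_ker_pow_finrank_of_le (Nat.le_succ N)] at h1
  have hfix : ∀ v, ρ y v = v → v ∈ A := by
    intro v hv
    have h1 := fix_of_inj D R (quotRep ρ A hAinv) hinj (A.mkQ v) (by rw [quotRep_mk, hv])
    rwa [Submodule.mkQ_apply, Submodule.Quotient.mk_eq_zero] at h1
  refine ⟨A, ?_, ?_, ?_, hfix, ?_, ?_⟩
  · intro h0
    have h1 := hm.1 0 (by decide)
    have h2 : ∑ b ∈ Finset.range 64, pat 3 b * w65 b 0 = 12 := by (first | (refine of_decide_eq_true ?_; rewrite [Cfsg.Agent.KOd30a962.e0, Cfsg.Agent.KOd30a962.e9, Cfsg.Agent.KOd30a962.e38.{0, 0}, Cfsg.Agent.KOd30a962.e34, Cfsg.Agent.KOd30a962.e18]; decide +kernel) | decide +kernel)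
    rw [h2] at h1
    have h3 : eig ρ y (ζ ^ 0) = ⊥ := by
      rw [Submodule.eq_bot_iff]
      intro v hv
      rw [mem_eig, pow_zero, one_smul] at hv
      have h4 := hfix v hv
      rw [h0] at h4
      exact (Submodule.mem_bot k).1 h4
    have h5 : e65 ρ y ζ 0 = 0 := by
      unfold e65
      rw [h3, finrank_bot]
    omega
  · intro h0
    obtain ⟨m, hm', hp⟩ := spec_poly D R (y_pow D) (Polynomial.X ^ N) _ ρ rfl (fun v => by
      rw [map_pow, Polynomial.aeval_X]
      have h1 : v ∈ A := by rw [h0]; trivial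
      exact LinearMap.mem_ker.1 h1)
    have h1 : m 63 = 0 := by
      by_contra hne
      have h2 := hp 63 (by decide) hne
      rw [if_pos rfl, Polynomial.eval_pow, Polynomial.eval_X, one_pow] at h2
      exact one_ne_zero h2
    have h2 := Q.spec hm hm' 63 (by decide)
    rw [h1] at h2
    revert h2
    decide
  · rintro n ⟨τ, hτ⟩ v hv
    rw [hA, LinearMap.mem_ker] at hv ⊢
    have h1 := pow_intertw (n : V →ₗ[k] V) (eps ρ) (eps ρ)
      (fun v => eps_comm' ρ τ (n : V →ₗ[k] V) (fun g v => hτ g v) v) N v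
    have h2 : (n : V →ₗ[k] V) v = n v := rfl
    rw [← h2, ← h1, hv, map_zero]
  · intro a ha b hb
    have h1 := bil_zero ρ (quotRep ρ A hAinv) (br.compr₂ A.mkQ) (fun g v w => by
        rw [LinearMap.compr₂_apply, LinearMap.compr₂_apply, quotRep_mk, hbr])
      (fun W hW hne => big_of_inj D R (quotRep ρ A hAinv) hinj W hW hne) A
      (fun U hle hU hne => steps D R Q ρ hm N U hle hU hne) _ A A le_rfl le_rfl hAinv hAinv rfl a ha b hb
    rw [LinearMap.compr₂_apply, Submodule.mkQ_apply, Submodule.Quotient.mk_eq_zero] at h1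
    exact h1
  · intro a ha hab
    -- `eps` is self-adjoint
    have hadj : ∀ v w, B (eps ρ v) w = B v (eps ρ w) := by
      intro v w
      rw [eps_apply, eps_apply, map_sum, map_sum, LinearMap.sum_apply]
      refine Finset.sum_nbij' (fun g => g⁻¹) (fun g => g⁻¹) ?_ ?_ ?_ ?_ ?_
      · intro g hg
        rw [Finset.mem_filter] at hg ⊢
        refine ⟨Finset.mem_univ _, fun h1 => hg.2 ?_⟩
        rw [← _root_.mul_inv_rev] at h1
        exact inv_eq_one.1 h1
      · intro g hg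
        rw [Finset.mem_filter] at hg ⊢
        refine ⟨Finset.mem_univ _, fun h1 => hg.2 ?_⟩
        rw [← _root_.mul_inv_rev] at h1
        exact inv_eq_one.1 h1
      · intro g _
        exact inv_inv g
      · intro g _
        exact inv_inv g
      · intro g _
        rw [← hB g⁻¹ (ρ g v) w, ← Module.End.mul_apply (ρ g⁻¹) (ρ g) v, ← map_mul, inv_mul_cancel, map_one]
        rfl
    have hadjn : ∀ (j : ℕ) v w, B ((eps ρ ^ j) v) w = B v ((eps ρ ^ j) w) := by
      intro j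
      induction j with
      | zero => intro v w; rfl
      | succ j ih =>
        intro v w
        rw [pow_succ, Module.End.mul_apply, ih, hadj, ← Module.End.mul_apply, ← pow_succ', ← pow_succ]
    apply hnd
    intro w
    -- `w = w₀ + eps ^ N w₁`
    obtain ⟨n0, hn0⟩ := Filter.eventually_atTop.1 (LinearMap.eventually_isCompl_ker_pow_range_pow (eps ρ))
    have hcompl := hn0 (max n0 N) (le_max_left _ _)
    have hker : LinearMap.ker (eps ρ ^ (max n0 N)) = A :=
      Module.End.ker_pow_eq_ker_pow_finrank_of_le (le_max_right _ _)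
    rw [hker] at hcompl
    have h1 : w ∈ A ⊔ LinearMap.range (eps ρ ^ (max n0 N)) := by rw [hcompl.sup_eq_top]; trivial
    obtain ⟨w0, hw0, _, ⟨w1, rfl⟩, rfl⟩ := Submodule.mem_sup.1 h1
    have ha' : (eps ρ ^ (max n0 N)) a = 0 := by
      have h2 := ha
      rw [← hker] at h2
      exact LinearMap.mem_ker.1 h2
    rw [map_add, hab w0 hw0, zero_add, ← hadjn, ha', map_zero, LinearMap.zero_apply]

end Main

end Cfsg.Agent.H950.E8X
end

-- part: H939/L64/RWrap
section
/-!
# S5915: the statements EPS and R6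
-/

set_option autoImplicit false

namespace Cfsg.Agent.H939.L64

open Matrix Cfsg.Agent.H943.SL2Rel Cfsg.Agent.H943.RepAdd Cfsg.Agent.H943.SL2Mod

variable {k : Type} [Field k] [IsAlgClosed k] [CharP k 2] {F : Type} [Field F] [Fintype F] [DecidableEq F] {ι : F →+* k}
  {lam : Fˣ} {y : _root_.Matrix.SpecialLinearGroup (Fin 2) F} {ζ : k}

theorem rf (D : Dat ι lam y ζ) : Cfsg.Agent.H950.E8X.RF ι lam y ζ :=
  ⟨fun ρ hI => Cfsg.Agent.H179.SLC.R1 D ρ hI, fun ρ W hW _ hb h => Cfsg.Agent.H179.SLC.R2 D ρ W hW hb h⟩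

theorem inp (D : Dat ι lam y ζ) : Cfsg.Agent.H280.L64.Inp ι lam y ζ :=
  ⟨fun _ _ _ _ ρ => Cfsg.Agent.H179.SLC.R3a D ρ, fun _ _ _ _ ρ _ hm => Cfsg.Agent.H179.SLC.PR D ρ hm,
    fun _ _ _ _ ρ hI => Cfsg.Agent.H179.SLC.R1 D ρ hI,
    fun _ _ _ _ ρ W hW _ hb h => (Cfsg.Agent.H179.SLC.R2 D ρ W hW hb h).1 0 (by norm_num)⟩

/-- R6: the refined pressure theorem (`σ` the Frobenius map on the coordinates) -/
theorem R6 (D : Dat ι lam y ζ) {V : Type} [AddCommGroup V] [Module k V] [FiniteDimensional k V]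
    (ρ : Representation k (_root_.Matrix.SpecialLinearGroup (Fin 2) F) V) (B : V →ₗ[k] V →ₗ[k] k)
    (hB : ∀ g v w, B (ρ g v) (ρ g w) = B v w) (hnd : ∀ v, (∀ w, B v w = 0) → v = 0)
    (σ : V ≃+ V) (hσ : ∀ (c : k) v, σ (c • v) = c ^ 2 • σ v) (hσρ : ∀ g v, σ (ρ g v) = ρ g (σ v))
    {m : ℕ → ℕ} (hm : SpecM ι ρ lam y ζ m) (h0 : fixS ρ = ⊥) (hpos : m 0 ≠ 0) : m 0 + 6 ≤ 6 * m 1 :=
  Cfsg.Agent.H280.L64.R6_of ρ D (inp D) B hB hnd σ hσ hσρ hm h0 hpos

/-- **EPS** (helper950): the part without Steinberg factors (`N` = any set of linear automorphisms normalising the image of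
`ρ`; `br` a bracket) -/
theorem EPS (D : Dat ι lam y ζ) {V : Type} [AddCommGroup V] [Module k V] [FiniteDimensional k V]
    (ρ : Representation k (_root_.Matrix.SpecialLinearGroup (Fin 2) F) V) (B : V →ₗ[k] V →ₗ[k] k)
    (hB : ∀ g v w, B (ρ g v) (ρ g w) = B v w) (hnd : ∀ v, (∀ w, B v w = 0) → v = 0)
    (br : V →ₗ[k] V →ₗ[k] V) (hbr : ∀ g v w, ρ g (br v w) = br (ρ g v) (ρ g w)) (hm : SpecM ι ρ lam y ζ (pat 3)) :
    ∃ A : Submodule k V, A ≠ ⊥ ∧ A ≠ ⊤ ∧
      (∀ (n : V ≃ₗ[k] V), (∃ τ : _root_.Matrix.SpecialLinearGroup (Fin 2) F ≃* _root_.Matrix.SpecialLinearGroup (Fin 2) F, ∀ g v, n (ρ g v) = ρ (τ g) (n v)) →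
        ∀ v ∈ A, n v ∈ A) ∧
      (∀ v, ρ y v = v → v ∈ A) ∧ (∀ a ∈ A, ∀ b ∈ A, br a b ∈ A) ∧ (∀ a ∈ A, (∀ b ∈ A, B a b = 0) → a = 0) := by
  have := charP_two D.card
  exact Cfsg.Agent.H950.E8X.EPS' D (rf D) Cfsg.Agent.H875.L64.R3b ρ B hB hnd br hbr hm

end Cfsg.Agent.H939.L64
end
end

-- part: H939/L64/Rot
section
set_option linter.all false
open scoped Cfsg.Agent.FastGrp

/-!
# S5915: the rotation of the masks
-/

set_option autoImplicit false
set_option maxRecDepth 100000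

namespace Cfsg.Agent.H939.L64

/-- the rotation -/
def rot (b : ℕ) : ℕ := if b = 63 then 63 else 2 * b % 63

def chkA : Bool := (List.range 64).all fun b => (List.range 65).all fun j => w65 (rot b) (2 * j % 65) == w65 b j
def chkB : Bool := (List.range 64).all fun b => (List.range 63).all fun j => w63 (rot b) (2 * j % 63) == w63 b j
def chkC : Bool := (List.range 64).all fun b => w65 b 0 == if b = 0 then 1 else 0

private noncomputable def _root_.Cfsg.Agent.LsF.f510ddc_0 : {f // @Cfsg.Agent.H939.L64.subm = f} := ⟨_, by first | (delta Cfsg.Agent.H939.L64.subm; rewrite [Cfsg.Agent.LsF.nadd_pat, Cfsg.Agent.LsF.nand_pat, Cfsg.Agent.LsF.nbeq_pat, Cfsg.Agent.LsF.filter_eq, Cfsg.Agent.LsF.range_eq]; exact rfl) | exact rfl⟩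
private noncomputable def _root_.Cfsg.Agent.LsF.f510ddc_1 : {f // @Cfsg.Agent.H939.L64.w65 = f} := ⟨_, by first | (delta Cfsg.Agent.H939.L64.w65; rewrite [Cfsg.Agent.LsF.f510ddc_0.2, Cfsg.Agent.LsF.nadd_pat, Cfsg.Agent.LsF.nmul_pat, Cfsg.Agent.LsF.nmod_pat, Cfsg.Agent.LsF.nbeq_pat, Cfsg.Agent.LsF.filter_eq, Cfsg.Agent.LsF.length_eq]; exact rfl) | exact rfl⟩
private noncomputable def _root_.Cfsg.Agent.LsF.f510ddc_2 : {f // @Cfsg.Agent.H939.L64.rot = f} := ⟨_, by first | (delta Cfsg.Agent.H939.L64.rot; rewrite [Cfsg.Agent.LsF.nmul_pat, Cfsg.Agent.LsF.nmod_pat, Cfsg.Agent.LsF.instDecEq_eq, Cfsg.Agent.LsF.ite_eq]; exact rfl) | exact rfl⟩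
private noncomputable def _root_.Cfsg.Agent.LsF.f510ddc_3 : {f // @Cfsg.Agent.H939.L64.chkA = f} := ⟨_, by first | (delta Cfsg.Agent.H939.L64.chkA; rewrite [Cfsg.Agent.LsF.f510ddc_1.2, Cfsg.Agent.LsF.f510ddc_2.2, Cfsg.Agent.LsF.nmul_pat, Cfsg.Agent.LsF.nmod_pat, Cfsg.Agent.LsF.nbeq_pat, Cfsg.Agent.LsF.all_eq, Cfsg.Agent.LsF.range_eq]; exact rfl) | exact rfl⟩
theorem chkA_true : chkA = true := by ((try (rewrite [Cfsg.Agent.LsF.f510ddc_3.2])); decide +kernel)
private noncomputable def _root_.Cfsg.Agent.LsF.f510ddc_4 : {f // @Cfsg.Agent.H939.L64.w63 = f} := ⟨_, by first | (delta Cfsg.Agent.H939.L64.w63; rewrite [Cfsg.Agent.LsF.f510ddc_0.2, Cfsg.Agent.LsF.nadd_pat, Cfsg.Agent.LsF.nmul_pat, Cfsg.Agent.LsF.nmod_pat, Cfsg.Agent.LsF.nbeq_pat, Cfsg.Agent.LsF.filter_eq, Cfsg.Agent.LsF.length_eq]; exact rfl) | exact rfl⟩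
private noncomputable def _root_.Cfsg.Agent.LsF.f510ddc_5 : {f // @Cfsg.Agent.H939.L64.chkB = f} := ⟨_, by first | (delta Cfsg.Agent.H939.L64.chkB; rewrite [Cfsg.Agent.LsF.f510ddc_4.2, Cfsg.Agent.LsF.f510ddc_2.2, Cfsg.Agent.LsF.nmul_pat, Cfsg.Agent.LsF.nmod_pat, Cfsg.Agent.LsF.nbeq_pat, Cfsg.Agent.LsF.all_eq, Cfsg.Agent.LsF.range_eq]; exact rfl) | exact rfl⟩
theorem chkB_true : chkB = true := by ((try (rewrite [Cfsg.Agent.LsF.f510ddc_5.2])); decide +kernel)
theorem chkC_true : chkC = true := by decide +kernel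

theorem w65_rot {b j : ℕ} (hb : b < 64) (hj : j < 65) : w65 (rot b) (2 * j % 65) = w65 b j := by
  have h := chkA_true
  rw [chkA, List.all_eq_true] at h
  have h1 := h b (List.mem_range.2 hb)
  rw [List.all_eq_true] at h1
  exact beq_iff_eq.1 (h1 j (List.mem_range.2 hj))

theorem w63_rot {b j : ℕ} (hb : b < 64) (hj : j < 63) : w63 (rot b) (2 * j % 63) = w63 b j := by
  have h := chkB_true
  rw [chkB, List.all_eq_true] at h
  have h1 := h b (List.mem_range.2 hb)
  rw [List.all_eq_true] at h1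
  exact beq_iff_eq.1 (h1 j (List.mem_range.2 hj))

theorem w65_zero {b : ℕ} (hb : b < 64) : w65 b 0 = if b = 0 then 1 else 0 := by
  have h := chkC_true
  rw [chkC, List.all_eq_true] at h
  exact beq_iff_eq.1 (h b (List.mem_range.2 hb))

theorem rot_lt {b : ℕ} (_hb : b < 64) : rot b < 64 := by
  unfold rot
  split_ifs
  · omega
  · have := Nat.mod_lt (2 * b) (show 63 > 0 by norm_num)
    omega

theorem rot_inj {b b' : ℕ} (_hb : b < 64) (_hb' : b' < 64) (h : rot b = rot b') : b = b' := by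
  unfold rot at h
  split_ifs at h <;> omega

theorem sum_rot (f : ℕ → ℕ) : ∑ b ∈ Finset.range 64, f (rot b) = ∑ b ∈ Finset.range 64, f b := by
  have h1 : (Finset.range 64).image rot = Finset.range 64 := by
    apply Finset.eq_of_subset_of_card_le
    · intro x hx
      obtain ⟨b, hb, rfl⟩ := Finset.mem_image.1 hx
      exact Finset.mem_range.2 (rot_lt (Finset.mem_range.1 hb))
    · rw [Finset.card_image_of_injOn]
      intro a ha b hb h
      exact rot_inj (Finset.mem_range.1 ha) (Finset.mem_range.1 hb) h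
  conv_rhs => rw [← h1]
  rw [Finset.sum_image]
  intro a ha b hb h
  exact rot_inj (Finset.mem_range.1 ha) (Finset.mem_range.1 hb) h

/-- the rotated solution -/
theorem sum65_rot {m : ℕ → ℕ} {j : ℕ} (hj : j < 65)
    (h : ∑ b ∈ Finset.range 64, m b * w65 b (2 * j % 65) = ∑ b ∈ Finset.range 64, m b * w65 b j) :
    ∑ b ∈ Finset.range 64, m (rot b) * w65 b j = ∑ b ∈ Finset.range 64, m b * w65 b j := by
  rw [← h, ← sum_rot fun b => m b * w65 b (2 * j % 65)]
  exact Finset.sum_congr rfl fun b hb => by rw [w65_rot (Finset.mem_range.1 hb) hj]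

theorem sum63_rot {m : ℕ → ℕ} {j : ℕ} (hj : j < 63)
    (h : ∑ b ∈ Finset.range 64, m b * w63 b (2 * j % 63) = ∑ b ∈ Finset.range 64, m b * w63 b j) :
    ∑ b ∈ Finset.range 64, m (rot b) * w63 b j = ∑ b ∈ Finset.range 64, m b * w63 b j := by
  rw [← h, ← sum_rot fun b => m b * w63 b (2 * j % 63)]
  exact Finset.sum_congr rfl fun b hb => by rw [w63_rot (Finset.mem_range.1 hb) hj]

theorem sum_zero (m : ℕ → ℕ) : ∑ b ∈ Finset.range 64, m b * w65 b 0 = m 0 := by
  rw [Finset.sum_eq_single 0]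
  · rw [w65_zero (by norm_num), if_pos rfl, mul_one]
  · intro b hb h0
    rw [w65_zero (Finset.mem_range.1 hb), if_neg h0, mul_zero]
  · intro h
    exact absurd (Finset.mem_range.2 (by norm_num)) h

end Cfsg.Agent.H939.L64

private theorem dce_a7e6e5561395 : _root_.True := by
  try have : _root_.True := by simp only [_root_.Cfsg.Agent.H939.L64.chkA.eq_1]
  try have : _root_.True := by simp only [_root_.Cfsg.Agent.H939.L64.chkC.eq_1]
  try have : _root_.True := by simp only [_root_.Cfsg.Agent.H939.L64.chkB.eq_1]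
  exact _root_.True.intro
end
end
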